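import Groth.Agent.H40.Lm.Nhd
import Groth.Agent.S5122

/-!
# Effectivity of étale separated descent data descends along fpqc base change (composite form)
-/

set_option autoImplicit false
set_option backward.isDefEq.respectTransparency.types false
universe w u

open CategoryTheory CategoryTheory.Limits AlgebraicGeometry MorphismProperty

namespace Groth.Agent.H40.Lm

open Desc Groth.Agent.H40.Bi Groth.Agent.H40.DGE

section sep

/-- morphisms with closed range. -/
def closedRange : MorphismProperty Scheme.{u} := fun _ _ f => IsClosed (Set.range f)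

instance : closedRange.{u}.RespectsIso := by
  apply MorphismProperty.RespectsIso.mk
  · intro X Y Z e f hf
    change IsClosed (Set.range (e.hom ≫ f))
    rw [Scheme.Hom.comp_base, TopCat.coe_comp, Set.range_comp,
      Set.range_eq_univ.mpr e.hom.surjective, Set.image_univ]
    exact hf
  · intro X Y Z e f hf
    change IsClosed (Set.range (f ≫ e.hom))
    rw [Scheme.Hom.comp_base, TopCat.coe_comp, Set.range_comp]
    exact e.hom.isClosedEmbedding.isClosedMap _ hf

instance : closedRange.{u}.DescendsAlong SGA1.UnivSubmersive := by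
  apply MorphismProperty.DescendsAlong.mk'
  intro X Y Z f g _ hf hfst
  have hq : Topology.IsQuotientMap f := hf (𝟙 X) (𝟙 Z) f IsPullback.of_id_snd
  change IsClosed (Set.range (pullback.fst f g)) at hfst
  rw [Scheme.Pullback.range_fst] at hfst
  exact hq.isClosed_preimage.mp hfst

/-- separatedness of an étale morphism descends along universally submersive morphisms. -/
theorem isSeparated_of_isPullback_usub {A X Y Z : Scheme.{u}} {fst : A ⟶ X} {snd : A ⟶ Y}
    {f : X ⟶ Z} {g : Y ⟶ Z} (sq : IsPullback fst snd f g) (hf : SGA1.UnivSubmersive f)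
    [IsSeparated fst] [Etale g] : IsSeparated g := by
  haveI : IsStableUnderBaseChange SGA1.UnivSubmersive.{u} := universally_isStableUnderBaseChange _
  have h1 : (diagonal closedRange.{u}) fst :=
    (pullback.diagonal fst).isClosedEmbedding.isClosed_range
  have h2 : (diagonal closedRange.{u}) g :=
    DescendsAlong.of_isPullback (P := diagonal closedRange.{u}) (Q := SGA1.UnivSubmersive) sq hf h1
  exact ⟨IsClosedImmersion.of_isPreimmersion _ h2⟩

end sep

theorem pullDDFam_congr' {S S' : Scheme.{u}} {ι ι' : Type w} {X : ι → Scheme.{u}}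
    {X' : ι' → Scheme.{u}} {f : ∀ i, X i ⟶ S} {f' : ∀ j, X' j ⟶ S'} {α : ι' → ι} {p p₀ : S' ⟶ S}
    (ep : p = p₀) {p' p'' : ∀ j, X' j ⟶ X (α j)} (e : p' = p'')
    (w' : ∀ j, p' j ≫ f (α j) = f' j ≫ p) (w'' : ∀ j, p'' j ≫ f (α j) = f' j ≫ p₀)
    (D : Desc.SchDDFam f) :
    (pullDDFam w').obj D = (pullDDFam w'').obj D := by
  subst ep
  subst e
  rfl

variable {S' S : Scheme.{u}} {g : S' ⟶ S} (Dm : SchDDFam (fun _ : PUnit.{w + 1} => g))

/-- effectivity of the datum pulled back along a composite gives effectivity of the iterated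
pullback. -/
theorem iso_comp_of_iso {Z₁ Z₂ : Scheme.{u}} (p₁ : Z₁ ⟶ S) (c : Z₂ ⟶ Z₁) (U : Over Z₂)
    (e : (toDDFam (fun _ : PUnit.{w + 1} => pullback.snd g (c ≫ p₁))).obj U ≅
      bcFam (p := c ≫ p₁) Dm) :
    Nonempty ((toDDFam (fun _ : PUnit.{w + 1} => pullback.snd (pullback.snd g p₁) c)).obj
        (Over.mk (pullback.snd U.hom (𝟙 Z₂))) ≅
      bcFam (p := c) (bcFam (p := p₁) Dm)) := by
  have hθ : (pullback.fst (pullback.snd g p₁) c ≫ pullback.fst g p₁) ≫ g =
      pullback.snd (pullback.snd g p₁) c ≫ c ≫ p₁ := by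
    rw [Category.assoc, pullback.condition, pullback.condition_assoc]
  have wθ : ∀ _ : PUnit.{w + 1},
      pullback.lift (pullback.fst (pullback.snd g p₁) c ≫ pullback.fst g p₁)
        (pullback.snd (pullback.snd g p₁) c) hθ ≫ pullback.snd g (c ≫ p₁) =
      pullback.snd (pullback.snd g p₁) c ≫ 𝟙 Z₂ := fun _ => by
    rw [pullback.lift_snd, Category.comp_id]
  have w₀ : ∀ _ : PUnit.{w + 1}, pullback.fst g (c ≫ p₁) ≫ g = pullback.snd g (c ≫ p₁) ≫ c ≫ p₁ :=
    fun _ => pullback.condition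
  have w₁ : ∀ _ : PUnit.{w + 1}, pullback.fst g p₁ ≫ g = pullback.snd g p₁ ≫ p₁ :=
    fun _ => pullback.condition
  have wc : ∀ _ : PUnit.{w + 1}, pullback.fst (pullback.snd g p₁) c ≫ pullback.snd g p₁ =
      pullback.snd (pullback.snd g p₁) c ≫ c := fun _ => pullback.condition
  let i1 := DF.bcIso (f := fun _ : PUnit.{w + 1} => pullback.snd g (c ≫ p₁))
    (f' := fun _ : PUnit.{w + 1} => pullback.snd (pullback.snd g p₁) c) (α := id) (p := 𝟙 Z₂)
    (p' := fun _ => pullback.lift (pullback.fst (pullback.snd g p₁) c ≫ pullback.fst g p₁)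
        (pullback.snd (pullback.snd g p₁) c) hθ) wθ U
  let i2 := (pullDDFam (f := fun _ : PUnit.{w + 1} => pullback.snd g (c ≫ p₁))
    (f' := fun _ : PUnit.{w + 1} => pullback.snd (pullback.snd g p₁) c) (α := id) (p := 𝟙 Z₂)
    (p' := fun _ => pullback.lift (pullback.fst (pullback.snd g p₁) c ≫ pullback.fst g p₁)
        (pullback.snd (pullback.snd g p₁) c) hθ) wθ).mapIso e
  let i3 := (DF.pullCompIso (f := fun _ : PUnit.{w + 1} => g)
    (f' := fun _ : PUnit.{w + 1} => pullback.snd g (c ≫ p₁))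
    (f'' := fun _ : PUnit.{w + 1} => pullback.snd (pullback.snd g p₁) c) (α₁ := id)
    (p₁ := c ≫ p₁) (p'₁ := fun _ => pullback.fst g (c ≫ p₁)) w₀ (α₂ := id) (p₂ := 𝟙 Z₂)
    (p'₂ := fun _ => pullback.lift (pullback.fst (pullback.snd g p₁) c ≫ pullback.fst g p₁)
        (pullback.snd (pullback.snd g p₁) c) hθ) wθ).app Dm
  have e4 := pullDDFam_congr' (f := fun _ : PUnit.{w + 1} => g)
    (f' := fun _ : PUnit.{w + 1} => pullback.snd (pullback.snd g p₁) c) (α := id)
    (p := 𝟙 Z₂ ≫ c ≫ p₁) (p₀ := c ≫ p₁) (Category.id_comp _)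
    (p' := fun _ => pullback.lift (pullback.fst (pullback.snd g p₁) c ≫ pullback.fst g p₁)
        (pullback.snd (pullback.snd g p₁) c) hθ ≫ pullback.fst g (c ≫ p₁))
    (p'' := fun _ => pullback.fst (pullback.snd g p₁) c ≫ pullback.fst g p₁)
    (funext fun _ => pullback.lift_fst _ _ _)
    (fun _ => by
      rw [pullback.lift_fst, hθ, Category.id_comp])
    (fun _ => hθ) Dm
  let i5 := (DF.pullCompIso (f := fun _ : PUnit.{w + 1} => g)
    (f' := fun _ : PUnit.{w + 1} => pullback.snd g p₁)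
    (f'' := fun _ : PUnit.{w + 1} => pullback.snd (pullback.snd g p₁) c) (α₁ := id)
    (p₁ := p₁) (p'₁ := fun _ => pullback.fst g p₁) w₁ (α₂ := id) (p₂ := c)
    (p'₂ := fun _ => pullback.fst (pullback.snd g p₁) c) wc).app Dm
  exact ⟨i1 ≪≫ i2 ≪≫ i3 ≪≫ eqToIso e4 ≪≫ i5.symm⟩

end Groth.Agent.H40.Lm
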