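import Groth.Agent.H40.Lm.YQuot

/-!
# Conversion between quotients of the base-changed descent datum and `Y`-model quotient data
-/

set_option autoImplicit false
set_option backward.isDefEq.respectTransparency.types false
universe w u

open CategoryTheory CategoryTheory.Limits AlgebraicGeometry

namespace Groth.Agent.H40.Lm

open Desc Groth.Agent.H40.DQ Groth.Agent.H40.DGE Groth.Agent.H40.Bi

variable {S' S : Scheme.{u}} {g : S' ⟶ S} {Z : Scheme.{u}} {p : Z ⟶ S}

section St

variable {D : Desc.SchDD g} {U₀ : Scheme.{u}} {r₀ : U₀ ⟶ S} {U : Scheme.{u}} {q : U ⟶ Z}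
  {kU : U ⟶ U₀} (sqU : IsPullback kU q r₀ p) {m₁ : V₁ p D ⟶ U}

include sqU in
/-- a quotient of the base-changed datum gives `Y`-model quotient data. -/
theorem yQuot_of_biQuot (hq : BiQuot q m₁) : YQuot D r₀ p (ι D p ≫ m₁ ≫ kU) := by
  have hw' : (ι D p ≫ m₁ ≫ kU) ≫ r₀ = pullback.snd (fV D) p ≫ p := by
    have h1 := hq.w
    simp only [Category.assoc]
    rw [sqU.w, ← reassoc_of% h1, ι_snd_snd_assoc]
  refine ⟨hw', ?_, ?_⟩
  · have e1 : tm D p ≫ ι D p ≫ m₁ = fs D p ≫ ι D p ≫ m₁ := by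
      rw [← Category.assoc, tm_ι, hq.inv _ _ _ (by
        simp only [Category.assoc, ι_snd_snd, fs_snd, xR_snd]), Category.assoc]
    rw [reassoc_of% e1]
  · rw [γ_eq g D r₀ p sqU m₁ hq.w hw']
    haveI : IsIso (pullback.lift (pullback.snd D.obj.hom (pullback.fst g p)) m₁ hq.w) := by
      have e : pullback.lift (pullback.snd D.obj.hom (pullback.fst g p)) m₁ hq.w =
          hq.isPullback.isoPullback.hom := by
        apply pullback.hom_ext
        · rw [pullback.lift_fst, IsPullback.isoPullback_hom_fst]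
        · rw [pullback.lift_snd, IsPullback.isoPullback_hom_snd]
      rw [e]
      infer_instance
    haveI : IsIso (β g r₀ p sqU) := ⟨βinv g r₀ p sqU, β_βinv g r₀ p sqU, βinv_β g r₀ p sqU⟩
    infer_instance

end St

section F

variable (Dm : SchDDFam (fun _ : PUnit.{w + 1} => g)) {U₀ : Scheme.{u}} (r₀ : U₀ ⟶ S) (p)

/-- the `R ×_S Z`-point attached to a point of `V₁` and a point of `X₁`. -/
theorem exists_rT {D : Desc.SchDD g} {T : Scheme.{u}} (v : T ⟶ V₁ p D) (x : T ⟶ pullback g p)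
    (h : (v ≫ pullback.snd D.obj.hom (pullback.fst g p)) ≫ pullback.snd g p = x ≫ pullback.snd g p)
    (h' : ((v ≫ pullback.snd D.obj.hom (pullback.fst g p)) ≫ pullback.fst g p) ≫ g =
      (x ≫ pullback.fst g p) ≫ g) :
    ∃ rT : T ⟶ pullback (fR D) p, rT ≫ fs D p = v ≫ ιinv D p ∧
      rT ≫ tm D p = trV v x h' ≫ ιinv D p := by
  have hc1 : (v ≫ pullback.fst D.obj.hom (pullback.fst g p)) ≫ D.obj.hom ≫ g =
      (x ≫ pullback.fst g p) ≫ g := by
    rw [← h']
    simp only [Category.assoc]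
    rw [pullback.condition_assoc]
  have hc2 : pullback.lift (v ≫ pullback.fst D.obj.hom (pullback.fst g p)) (x ≫ pullback.fst g p)
      hc1 ≫ fR D = (x ≫ pullback.snd g p) ≫ p := by
    change _ ≫ pullback.fst (D.obj.hom ≫ g) g ≫ D.obj.hom ≫ g = _
    rw [pullback.lift_fst_assoc, hc1, Category.assoc, Category.assoc, pullback.condition]
  refine ⟨pullback.lift (pullback.lift (v ≫ pullback.fst D.obj.hom (pullback.fst g p))
    (x ≫ pullback.fst g p) hc1) (x ≫ pullback.snd g p) hc2, ?_, ?_⟩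
  · apply pullback.hom_ext
    · rw [Category.assoc, fs_fst, pullback.lift_fst_assoc, pullback.lift_fst, Category.assoc,
        ιinv_fst]
    · rw [Category.assoc, fs_snd, pullback.lift_snd, Category.assoc, ιinv_snd, ← h,
        Category.assoc]
  · apply pullback.hom_ext
    · rw [Category.assoc, tm_fst, pullback.lift_fst_assoc, Category.assoc, ιinv_fst, trV_fst]
      exact lift_tmor D _ _ _
    · rw [Category.assoc, tm_snd, pullback.lift_snd, Category.assoc, ιinv_snd, trV_snd_assoc]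

theorem inv_of_yQuot {n' : pullback (fV ((SchDDFam.toSchDD g).obj Dm)) p ⟶ U₀}
    (h : YQuot ((SchDDFam.toSchDD g).obj Dm) r₀ p n') {T : Scheme.{u}}
    (v : T ⟶ V₁ p ((SchDDFam.toSchDD g).obj Dm)) (x : T ⟶ pullback g p)
    (hx : (v ≫ ((SchDDFam.toSchDD (pullback.snd g p)).obj (bcFam (p := p) Dm)).obj.hom) ≫
      pullback.snd g p = x ≫ pullback.snd g p) :
    tr ((SchDDFam.toSchDD (pullback.snd g p)).obj (bcFam (p := p) Dm)) v x hx ≫
      ιinv ((SchDDFam.toSchDD g).obj Dm) p ≫ pullback.lift n' (pullback.snd _ _) h.w =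
    v ≫ ιinv ((SchDDFam.toSchDD g).obj Dm) p ≫ pullback.lift n' (pullback.snd _ _) h.w := by
  have hx0 : (v ≫ pullback.snd ((SchDDFam.toSchDD g).obj Dm).obj.hom (pullback.fst g p)) ≫
      pullback.snd g p = x ≫ pullback.snd g p := hx
  have h' : ((v ≫ pullback.snd ((SchDDFam.toSchDD g).obj Dm).obj.hom (pullback.fst g p)) ≫
      pullback.fst g p) ≫ g = (x ≫ pullback.fst g p) ≫ g := by
    apply compat_of
    rw [hx0]
  obtain ⟨rT, hr1, hr2⟩ := exists_rT p v x hx0 h'
  have e0 : tm ((SchDDFam.toSchDD g).obj Dm) p ≫ pullback.lift n' (pullback.snd _ _) h.w =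
      fs ((SchDDFam.toSchDD g).obj Dm) p ≫ pullback.lift n' (pullback.snd _ _) h.w := by
    apply pullback.hom_ext
    · rw [Category.assoc, Category.assoc, pullback.lift_fst, h.inv]
    · rw [Category.assoc, Category.assoc, pullback.lift_snd, tm_snd, fs_snd]
  have e2 : trV v x h' ≫ ιinv ((SchDDFam.toSchDD g).obj Dm) p ≫
      pullback.lift n' (pullback.snd _ _) h.w =
      v ≫ ιinv ((SchDDFam.toSchDD g).obj Dm) p ≫ pullback.lift n' (pullback.snd _ _) h.w := by
    rw [← Category.assoc, ← hr2, Category.assoc, e0, ← Category.assoc, hr1, Category.assoc]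
  exact (congrArg (fun t : T ⟶ V₁ p ((SchDDFam.toSchDD g).obj Dm) =>
    t ≫ ιinv ((SchDDFam.toSchDD g).obj Dm) p ≫ pullback.lift n' (pullback.snd _ _) h.w)
    (tr_bc Dm v x hx h')).trans e2

/-- `Y`-model quotient data give a quotient of the base-changed datum. -/
theorem isQuot_of_yQuot {n' : pullback (fV ((SchDDFam.toSchDD g).obj Dm)) p ⟶ U₀}
    (h : YQuot ((SchDDFam.toSchDD g).obj Dm) r₀ p n') :
    DGE.IsQuot ((SchDDFam.toSchDD (pullback.snd g p)).obj (bcFam (p := p) Dm))
      (pullback.snd r₀ p)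
      (ιinv ((SchDDFam.toSchDD g).obj Dm) p ≫ pullback.lift n' (pullback.snd _ _) h.w) := by
  have hw0 : pullback.snd ((SchDDFam.toSchDD g).obj Dm).obj.hom (pullback.fst g p) ≫
      pullback.snd g p =
      (ιinv ((SchDDFam.toSchDD g).obj Dm) p ≫ pullback.lift n' (pullback.snd _ _) h.w) ≫
        pullback.snd r₀ p := by
    rw [Category.assoc, pullback.lift_snd, ιinv_snd]
  refine ⟨hw0, ?_, ?_⟩
  · intro T v x hx
    exact inv_of_yQuot p Dm r₀ h v x hx
  · have hw' : (ι ((SchDDFam.toSchDD g).obj Dm) p ≫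
        (ιinv ((SchDDFam.toSchDD g).obj Dm) p ≫ pullback.lift n' (pullback.snd _ _) h.w) ≫
        pullback.fst r₀ p) ≫ r₀ = pullback.snd (fV ((SchDDFam.toSchDD g).obj Dm)) p ≫ p := by
      simp only [Category.assoc]
      rw [ι_ιinv_assoc, pullback.lift_fst_assoc, h.w]
    have e := lift_eq g ((SchDDFam.toSchDD g).obj Dm) r₀ p (IsPullback.of_hasPullback r₀ p)
      (ιinv ((SchDDFam.toSchDD g).obj Dm) p ≫ pullback.lift n' (pullback.snd _ _) h.w) hw0 hw'
    have e' : γ ((SchDDFam.toSchDD g).obj Dm) r₀ p _ hw' =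
        γ ((SchDDFam.toSchDD g).obj Dm) r₀ p n' h.w :=
      γ_congr (by simp only [Category.assoc]; rw [ι_ιinv_assoc, pullback.lift_fst]) _ _
    rw [e'] at e
    haveI := h.iso
    haveI : IsIso (βinv g r₀ p (IsPullback.of_hasPullback r₀ p)) :=
      ⟨β g r₀ p _, βinv_β g r₀ p _, β_βinv g r₀ p _⟩
    have : IsIso (pullback.lift
        (pullback.snd ((SchDDFam.toSchDD g).obj Dm).obj.hom (pullback.fst g p))
        (ιinv ((SchDDFam.toSchDD g).obj Dm) p ≫ pullback.lift n' (pullback.snd _ _) h.w) hw0) := by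
      rw [e]
      infer_instance
    exact this

/-- `Y`-model quotient data give effectivity of the base-changed datum. -/
theorem exists_effective_of_yQuot [Etale r₀]
    {n' : pullback (fV ((SchDDFam.toSchDD g).obj Dm)) p ⟶ U₀}
    (h : YQuot ((SchDDFam.toSchDD g).obj Dm) r₀ p n') :
    ∃ U : Over Z, Etale U.hom ∧
      Nonempty ((toDDFam (fun _ : PUnit.{w + 1} => pullback.snd g p)).obj U ≅
        bcFam (p := p) Dm) := by
  obtain ⟨e⟩ := (isQuot_of_yQuot p Dm r₀ h).nonempty_iso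
  refine ⟨Over.mk (pullback.snd r₀ p), ?_, ⟨?_⟩⟩
  · change Etale (pullback.snd r₀ p)
    infer_instance
  · exact (SchDDFam.oneEquiv (pullback.snd g p)).unitIso.app _ ≪≫
      (SchDDFam.ofSchDD (pullback.snd g p)).mapIso e ≪≫
      ((SchDDFam.oneEquiv (pullback.snd g p)).unitIso.app (bcFam (p := p) Dm)).symm

end F

end Groth.Agent.H40.Lm
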