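import Groth.Agent.H40.Lm.Limit
import Groth.Agent.H40.Lm.Convert
import Groth.Agent.S0591
import Groth.Agent.H24.LimitLocusIff
import Groth.Agent.H24.LimitLocusEtale

/-!
# Descending an étale quasi-compact quasi-separated scheme over a limit to a finite stage
-/

set_option autoImplicit false
set_option backward.isDefEq.respectTransparency.types false
universe u

open CategoryTheory CategoryTheory.Limits AlgebraicGeometry MorphismProperty

namespace Groth.Agent.H40.Lm

/-- quasi-compactness descends along surjective quasi-compact morphisms. -/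
theorem quasiCompact_descendsAlong_surj :
    DescendsAlong @QuasiCompact (@Surjective ⊓ @QuasiCompact : MorphismProperty Scheme.{u}) := by
  refine IsZariskiLocalAtTarget.descendsAlong_inf_quasiCompact _ _ inf_le_right ?_
  intro R S Y φ g hsurj hfst
  have : QuasiCompact (pullback.fst (Spec.map φ) g) := hfst
  have : Surjective (Spec.map φ) := hsurj
  have hc : CompactSpace ↥(pullback (Spec.map φ) g) :=
    (quasiCompact_iff_compactSpace (pullback.fst (Spec.map φ) g)).mp inferInstance
  have hs : Surjective (pullback.snd (Spec.map φ) g) := inferInstance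
  have : CompactSpace Y :=
    ⟨by
      rw [← Set.range_eq_univ.mpr (pullback.snd (Spec.map φ) g).surjective]
      exact isCompact_range (pullback.snd (Spec.map φ) g).continuous⟩
  exact (quasiCompact_iff_compactSpace g).mpr this

/-- quasi-separatedness descends along surjective quasi-compact morphisms. -/
theorem quasiSeparated_descendsAlong_surj :
    DescendsAlong @QuasiSeparated (@Surjective ⊓ @QuasiCompact : MorphismProperty Scheme.{u}) := by
  rw [quasiSeparated_eq_diagonal_is_quasiCompact]
  have := quasiCompact_descendsAlong_surj.{u}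
  infer_instance

theorem quasiCompact_of_isPullback_surj {A X Y Z : Scheme.{u}} {fst : A ⟶ X} {snd : A ⟶ Y}
    {f : X ⟶ Z} {g : Y ⟶ Z} (sq : IsPullback fst snd f g) [Surjective f] [QuasiCompact f]
    [QuasiCompact fst] : QuasiCompact g :=
  haveI := quasiCompact_descendsAlong_surj.{u}
  DescendsAlong.of_isPullback (P := @QuasiCompact) (Q := @Surjective ⊓ @QuasiCompact) sq
    ⟨inferInstance, inferInstance⟩ inferInstance

theorem quasiSeparated_of_isPullback_surj {A X Y Z : Scheme.{u}} {fst : A ⟶ X} {snd : A ⟶ Y}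
    {f : X ⟶ Z} {g : Y ⟶ Z} (sq : IsPullback fst snd f g) [Surjective f] [QuasiCompact f]
    [QuasiSeparated fst] : QuasiSeparated g :=
  haveI := quasiSeparated_descendsAlong_surj.{u}
  DescendsAlong.of_isPullback (P := @QuasiSeparated) (Q := @Surjective ⊓ @QuasiCompact) sq
    ⟨inferInstance, inferInstance⟩ inferInstance

section stage

variable {I : Type u} [SmallCategory I] [IsCofiltered I] (Z : I ⥤ Scheme.{u}) (c : Cone Z)
  (hc : IsLimit c) [∀ {i j : I} (f : i ⟶ j), IsAffineHom (Z.map f)]
  [∀ i, CompactSpace (Z.obj i)] [∀ i, QuasiSeparatedSpace (Z.obj i)]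

include hc in
/-- an étale quasi-compact quasi-separated scheme over the limit comes from a finite stage. -/
theorem exists_etale_stage {U : Scheme.{u}} (q : U ⟶ c.pt) [Etale q] [QuasiCompact q]
    [QuasiSeparated q] :
    ∃ (j : I) (Uj : Scheme.{u}) (uj : Uj ⟶ Z.obj j) (k : U ⟶ Uj), Etale uj ∧ QuasiCompact uj ∧
      QuasiSeparated uj ∧ IsPullback k q uj (c.π.app j) := by
  haveI : ∀ (i j : I) (f : i ⟶ j), IsAffineHom (Z.map f) := fun _ _ f => inferInstance
  obtain ⟨i₀, X₀, f₀, k₀, h1, h2, h3, sq₀⟩ := Groth.Agent.S0591.result Z c hc U q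
  haveI : CompactSpace X₀ := QuasiCompact.compactSpace_of_compactSpace f₀
  have hY : IsPullback (c.π.app i₀) (𝟙 c.pt) (𝟙 (Z.obj i₀)) (c.π.app i₀) :=
    IsPullback.of_id_snd
  obtain ⟨j, φ, Xj, Yj, fj, gj, pY, pX, s1, s2, hfj⟩ :=
    (Groth.Agent.H24.iff_exists_stage_of_core Z c i₀ f₀ (𝟙 (Z.obj i₀)) @Etale
      (fun j => inferInstance) Groth.Agent.H24.coreDescent_etale hc q (𝟙 c.pt) (c.π.app i₀) k₀
      hY sq₀).mp inferInstance
  haveI : IsIso gj := s1.isIso_snd_of_isIso
  haveI : Etale fj := hfj
  have sX : IsPullback pX (fj ≫ gj) f₀ (Z.map φ) := by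
    have := s2.paste_vert s1
    rwa [Category.comp_id] at this
  have e0 : k₀ ≫ f₀ = (q ≫ c.π.app j) ≫ Z.map φ := by
    rw [Category.assoc, c.w φ, sq₀.w]
  have e1 : sX.lift k₀ (q ≫ c.π.app j) e0 ≫ pX = k₀ := sX.lift_fst _ _ _
  have e2 : c.π.app j ≫ Z.map φ = c.π.app i₀ := c.w φ
  have t : IsPullback (sX.lift k₀ (q ≫ c.π.app j) e0 ≫ pX) q f₀ (c.π.app j ≫ Z.map φ) := by
    rw [e1, e2]
    exact sq₀
  refine ⟨j, Xj, fj ≫ gj, sX.lift k₀ (q ≫ c.π.app j) e0, inferInstance,
    MorphismProperty.of_isPullback (P := @QuasiCompact) sX h2,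
    MorphismProperty.of_isPullback (P := @QuasiSeparated) sX h3,
    IsPullback.of_right t (sX.lift_snd _ _ _) sX⟩

end stage

end Groth.Agent.H40.Lm
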