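import Groth.Agent.H40.Lm.Compl

/-!
# Effectivity over `Z₁` from effectivity over an fpqc cover `Z₂ ⟶ Z₁`
-/

set_option autoImplicit false
set_option backward.isDefEq.respectTransparency.types false
universe u

open CategoryTheory CategoryTheory.Limits AlgebraicGeometry MorphismProperty

namespace Groth.Agent.H40.Lm

open Desc Groth.Agent.H40.Bi Groth.Agent.H40.DGE

/-- effectivity of an étale separated quasi-compact descent datum over `Z₁` follows from
effectivity over an fpqc cover of `Z₁`. -/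
theorem effective_of_fpqc {S' S : Scheme.{u}} (g : S' ⟶ S) (hg : SGA1.UnivSubmersive g)
    [QuasiCompact g] (Dm : SchDDFam (fun _ : PUnit.{1} => g)) [Etale (Dm.obj PUnit.unit).hom]
    [IsSeparated (Dm.obj PUnit.unit).hom] [QuasiCompact (Dm.obj PUnit.unit).hom]
    {Z₁ Z₂ : Scheme.{u}} (p₁ : Z₁ ⟶ S) (c : Z₂ ⟶ Z₁) [Flat c] [Surjective c] [QuasiCompact c]
    (H : ∃ U : Over Z₂, Etale U.hom ∧
      Nonempty ((toDDFam (fun _ : PUnit.{1} => pullback.snd g (c ≫ p₁))).obj U ≅
        bcFam (p := c ≫ p₁) Dm)) :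
    ∃ U : Over Z₁, Etale U.hom ∧
      Nonempty ((toDDFam (fun _ : PUnit.{1} => pullback.snd g p₁)).obj U ≅
        bcFam (p := p₁) Dm) := by
  obtain ⟨U, hU, ⟨e⟩⟩ := H
  haveI : USub g := ⟨hg⟩
  haveI : Surjective g := ⟨USub.surjective g⟩
  haveI : Etale U.hom := hU
  obtain ⟨m₁, hq⟩ := exists_biQuot_of_iso Dm U e
  haveI : Etale ((SchDDFam.toSchDD g).obj Dm).obj.hom :=
    (inferInstance : Etale (Dm.obj PUnit.unit).hom)
  haveI : IsSeparated ((SchDDFam.toSchDD g).obj Dm).obj.hom :=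
    (inferInstance : IsSeparated (Dm.obj PUnit.unit).hom)
  haveI : QuasiCompact ((SchDDFam.toSchDD g).obj Dm).obj.hom :=
    (inferInstance : QuasiCompact (Dm.obj PUnit.unit).hom)
  have hus : SGA1.UnivSubmersive (pullback.snd g (c ≫ p₁)) :=
    (USub.of_isPullback (IsPullback.of_hasPullback g (c ≫ p₁))).out
  have hg₁ : SGA1.UnivSubmersive (pullback.snd g p₁) :=
    (USub.of_isPullback (IsPullback.of_hasPullback g p₁)).out
  have hqc : QuasiCompact U.hom := quasiCompact_of_isPullback_surj hq.isPullback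
  have hsep : IsSeparated U.hom := isSeparated_of_isPullback_usub hq.isPullback hus
  obtain ⟨e'⟩ := iso_comp_of_iso Dm p₁ c U e
  haveI : Etale ((bcFam (p := p₁) Dm).obj PUnit.unit).hom :=
    inferInstanceAs (Etale (pullback.snd (Dm.obj PUnit.unit).hom (pullback.fst g p₁)))
  haveI : IsSeparated ((bcFam (p := p₁) Dm).obj PUnit.unit).hom :=
    inferInstanceAs (IsSeparated (pullback.snd (Dm.obj PUnit.unit).hom (pullback.fst g p₁)))
  haveI : QuasiCompact ((bcFam (p := p₁) Dm).obj PUnit.unit).hom :=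
    inferInstanceAs (QuasiCompact (pullback.snd (Dm.obj PUnit.unit).hom (pullback.fst g p₁)))
  obtain ⟨U₁, h1, -, -, h4⟩ :=
    (Groth.Agent.S5122.result (pullback.snd g p₁) hg₁ (bcFam (p := p₁) Dm) c).mpr
      ⟨Over.mk (pullback.snd U.hom (𝟙 Z₂)),
        (inferInstance : Etale (pullback.snd U.hom (𝟙 Z₂))),
        (inferInstance : IsSeparated (pullback.snd U.hom (𝟙 Z₂))),
        (inferInstance : QuasiCompact (pullback.snd U.hom (𝟙 Z₂))), ⟨e'⟩⟩
  exact ⟨U₁, h1, h4⟩

end Groth.Agent.H40.Lm
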