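import Mathlib
import Groth.Agent.H80.ResExtIter
import Groth.Agent.H20.ComplNoeth2

/-!
# A complete Noetherian local flat extension with algebraically closed residue field
-/

set_option autoImplicit false
set_option linter.style.haveILetI false
universe u

namespace Groth.Agent.H40.Lm

open IsLocalRing

/-- every Noetherian local ring has a flat local extension that is a complete Noetherian local
ring with algebraically closed residue field (EGA 0_III 10.3.1). -/
theorem exists_complete_algClosed (A : Type u) [CommRing A] [IsLocalRing A] [IsNoetherianRing A] :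
    ∃ (B : Type u) (_ : CommRing B) (_ : IsNoetherianRing B) (_ : IsLocalRing B)
      (_ : IsAdicComplete (maximalIdeal B) B) (_ : IsAlgClosed (ResidueField B)) (f : A →+* B),
      f.Flat ∧ IsLocalHom f := by
  classical
  let K := AlgebraicClosure (ResidueField A)
  let φ₀ : A →+* K := (algebraMap (ResidueField A) K).comp (residue A)
  haveI hφ₀ : IsLocalHom φ₀ := by
    constructor
    intro x hx
    by_contra hnu
    have h1 : residue A x = 0 := (residue_eq_zero_iff x).mpr ((mem_maximalIdeal x).mpr hnu)
    have h2 : φ₀ x = 0 := by
      change algebraMap (ResidueField A) K (residue A x) = 0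
      rw [h1, map_zero]
    rw [h2] at hx
    exact not_isUnit_zero hx
  obtain ⟨R', _, f, φ', hW, ⟨hloc, hlh⟩, hcomp, hsurj, hN⟩ := Groth.Agent.H80.ResExt.main A φ₀
  haveI : IsNoetherianRing R' := hN inferInstance
  haveI hfloc : IsLocalHom f := hW.isLocalHom
  let B := AdicCompletion (maximalIdeal R') R'
  haveI : IsNoetherianRing B :=
    Groth.Agent.H20.isNoetherianRing_adicCompletion_of_fg (maximalIdeal R')
      (IsNoetherian.noetherian _)
  haveI : IsAdicComplete (maximalIdeal B) B :=
    AdicCompletion.isAdicComplete_of_fg (maximalIdeal R').fg_of_isNoetherianRing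
  have hbij := AdicCompletion.residueField_map_bijective (R := R')
  let e1 : ResidueField R' ≃+* ResidueField B := RingEquiv.ofBijective _ hbij
  let ψ : ResidueField R' →+* K := ResidueField.lift φ'
  have hψbij : Function.Bijective ψ := by
    refine ⟨ψ.injective, fun y => ?_⟩
    obtain ⟨x, rfl⟩ := hsurj y
    exact ⟨residue R' x, ResidueField.lift_residue_apply φ' x⟩
  let e2 : K ≃+* ResidueField B := (RingEquiv.ofBijective ψ hψbij).symm.trans e1
  haveI : IsAlgClosed (ResidueField B) := IsAlgClosed.of_ringEquiv K (ResidueField B) e2
  refine ⟨B, inferInstance, inferInstance, inferInstance, inferInstance, inferInstance,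
    (algebraMap R' B).comp f, ?_, ?_⟩
  · exact hW.flat.comp (RingHom.flat_algebraMap_iff.mpr inferInstance)
  · exact RingHom.isLocalHom_comp _ _

end Groth.Agent.H40.Lm
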