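import Groth.Agent.H24.OverBC
import Mathlib.AlgebraicGeometry.AffineTransitionLimit

/-!
# Morphisms from a base-changed limit into a scheme locally of finite presentation

For a cofiltered system `Z_j` of qcqs `S`-schemes with affine transition maps and limit `Z_∞`, an
`S`-scheme `A` and an `S`-scheme `X` locally of finite presentation, every `S`-morphism
`A ×_S Z_∞ ⟶ X` comes from some `A ×_S Z_j ⟶ X`, and two such morphisms that agree on
`A ×_S Z_∞` agree on some `A ×_S Z_k`.
-/

set_option autoImplicit false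
universe u

open CategoryTheory CategoryTheory.Limits AlgebraicGeometry

namespace Groth.Agent.H40.Lm

open Groth.Agent.H24.OverBC

variable {I : Type u} [Category.{u} I] (Z : I ⥤ Scheme.{u}) {S : Scheme.{u}}
  (t : Z ⟶ (Functor.const I).obj S) (c : Cone Z) (tS : c.pt ⟶ S)
  (htS : ∀ j, c.π.app j ≫ t.app j = tS) {A : Scheme.{u}} (fA : A ⟶ S)

/-- the structure morphisms of the base-changed diagram. -/
noncomputable def bcT : bcDiagram Z t fA ⟶ (Functor.const I).obj S where
  app j := pullback.snd fA (t.app j) ≫ t.app j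
  naturality i j φ := by
    change bcMap Z t fA φ ≫ pullback.snd fA (t.app j) ≫ t.app j =
      (pullback.snd fA (t.app i) ≫ t.app i) ≫ 𝟙 S
    rw [bcMap_snd_assoc, map_t]
    exact (Category.comp_id _).symm

@[simp] theorem bcT_app (j : I) : (bcT Z t fA).app j = pullback.snd fA (t.app j) ≫ t.app j := rfl

instance [∀ {i j} (f : i ⟶ j), IsAffineHom (Z.map f)] {i j : I} (φ : i ⟶ j) :
    IsAffineHom ((bcDiagram Z t fA).map φ) :=
  MorphismProperty.of_isPullback (P := @IsAffineHom) (isPullback_bcMap Z t fA φ).flip inferInstance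

theorem bcπ_bcMap {i j : I} (φ : i ⟶ j) :
    bcπ Z t fA c tS htS i ≫ bcMap Z t fA φ = bcπ Z t fA c tS htS j :=
  (bcCone Z t fA c tS htS).w φ

variable [IsCofiltered I] [∀ {i j} (f : i ⟶ j), IsAffineHom (Z.map f)]
  (hcpt : ∀ j, CompactSpace ↥(pullback fA (t.app j) : Scheme.{u})) (hc : IsLimit c)

include hc hcpt in
/-- morphisms into a scheme locally of finite presentation come from a finite stage. -/
theorem exists_hom_of_lfp
    (hqs : ∀ j, QuasiSeparatedSpace ↥(pullback fA (t.app j) : Scheme.{u}))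
    {X : Scheme.{u}} (f : X ⟶ S) [LocallyOfFinitePresentation f]
    (a : pullback fA tS ⟶ X) (ha : a ≫ f = pullback.snd fA tS ≫ tS) :
    ∃ (j : I) (aj : pullback fA (t.app j) ⟶ X), bcπ Z t fA c tS htS j ≫ aj = a ∧
      aj ≫ f = pullback.snd fA (t.app j) ≫ t.app j := by
  haveI : IsConnected I := IsCofiltered.isConnected I
  haveI : ∀ j, CompactSpace ((bcDiagram Z t fA).obj j) := hcpt
  haveI : ∀ j, QuasiSeparatedSpace ((bcDiagram Z t fA).obj j) := hqs
  obtain ⟨j, aj, h1, h2⟩ := Scheme.exists_π_app_comp_eq_of_locallyOfFinitePresentation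
    (bcDiagram Z t fA) (bcT Z t fA) f (bcCone Z t fA c tS htS)
    (isLimitBcCone Z t fA c tS htS hc) a (by
      ext j : 2
      change bcπ Z t fA c tS htS j ≫ pullback.snd fA (t.app j) ≫ t.app j = a ≫ f
      rw [bcπ_snd_assoc, htS, ha])
  exact ⟨j, aj, h1, h2⟩

include hc hcpt in
/-- two morphisms into a scheme locally of finite type that agree at the limit agree at a finite
stage. -/
theorem exists_eq_of_lft {X : Scheme.{u}} (f : X ⟶ S) [LocallyOfFiniteType f] {j : I}
    (a b : pullback fA (t.app j) ⟶ X) (ha : a ≫ f = pullback.snd fA (t.app j) ≫ t.app j)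
    (hb : b ≫ f = pullback.snd fA (t.app j) ≫ t.app j)
    (hab : bcπ Z t fA c tS htS j ≫ a = bcπ Z t fA c tS htS j ≫ b) :
    ∃ (k : I) (φ : k ⟶ j), bcMap Z t fA φ ≫ a = bcMap Z t fA φ ≫ b := by
  haveI : IsConnected I := IsCofiltered.isConnected I
  haveI : ∀ j, CompactSpace ((bcDiagram Z t fA).obj j) := hcpt
  exact Scheme.exists_hom_comp_eq_comp_of_locallyOfFiniteType
    (bcDiagram Z t fA) (bcT Z t fA) f (bcCone Z t fA c tS htS)
    (isLimitBcCone Z t fA c tS htS hc) a b ha.symm hb.symm hab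

end Groth.Agent.H40.Lm
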