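import Groth.Agent.H40.Lm.YData

/-!
# Quotient data over a limit come from a finite stage
-/

set_option autoImplicit false
set_option backward.isDefEq.respectTransparency.types false
universe u

open CategoryTheory CategoryTheory.Limits AlgebraicGeometry

namespace Groth.Agent.H40.Lm

open Desc Groth.Agent.H40.DQ Groth.Agent.H40.DGE Groth.Agent.H40.Bi Groth.Agent.H24.OverBC

section general

variable {S X T₁ T₂ T₃ : Scheme.{u}} (f : X ⟶ S) (p₁ : T₁ ⟶ S) (p₂ : T₂ ⟶ S) (p₃ : T₃ ⟶ S)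
  (r : T₂ ⟶ T₁) (h : r ≫ p₁ = p₂) (r' : T₃ ⟶ T₂) (h' : r' ≫ p₂ = p₃)

theorem baseMap_comp :
    baseMap f p₃ p₂ r' h' ≫ baseMap f p₂ p₁ r h =
      baseMap f p₃ p₁ (r' ≫ r) (by rw [Category.assoc, h, h']) := by
  apply pullback.hom_ext
  · rw [Category.assoc, baseMap_fst, baseMap_fst, baseMap_fst]
  · rw [Category.assoc, baseMap_snd, baseMap_snd_assoc, baseMap_snd]

theorem baseMap_congr {r₁ r₂ : T₂ ⟶ T₁} (e : r₁ = r₂) (h₁ : r₁ ≫ p₁ = p₂) (h₂ : r₂ ≫ p₁ = p₂) :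
    baseMap f p₂ p₁ r₁ h₁ = baseMap f p₂ p₁ r₂ h₂ := by
  subst e
  rfl

end general

variable {S' S : Scheme.{u}} {g : S' ⟶ S} {D : Desc.SchDD g} {U₀ : Scheme.{u}} {r₀ : U₀ ⟶ S}

namespace YData

@[ext]
theorem ext' {Z : Scheme.{u}} {p : Z ⟶ S} {P Q : YData D r₀ p} (h1 : P.n' = Q.n')
    (h2 : P.ψ' = Q.ψ') : P = Q := by
  cases P
  cases Q
  cases h1
  cases h2
  rfl

theorem res_res {Z₁ Z₂ Z₃ : Scheme.{u}} {p₁ : Z₁ ⟶ S} {p₂ : Z₂ ⟶ S} {p₃ : Z₃ ⟶ S}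
    (P : YData D r₀ p₁) (r : Z₂ ⟶ Z₁) (h : r ≫ p₁ = p₂) (r' : Z₃ ⟶ Z₂) (h' : r' ≫ p₂ = p₃) :
    (P.res r h).res r' h' = P.res (r' ≫ r) (by rw [Category.assoc, h, h']) := by
  apply ext'
  · change baseMap _ _ _ r' h' ≫ baseMap _ _ _ r h ≫ P.n' = baseMap _ _ _ (r' ≫ r) _ ≫ P.n'
    rw [← Category.assoc, baseMap_comp]
  · change baseMap _ _ _ r' h' ≫ baseMap _ _ _ r h ≫ P.ψ' = baseMap _ _ _ (r' ≫ r) _ ≫ P.ψ'
    rw [← Category.assoc, baseMap_comp]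

theorem res_congr {Z₁ Z₂ : Scheme.{u}} {p₁ : Z₁ ⟶ S} {p₂ : Z₂ ⟶ S}
    (P : YData D r₀ p₁) {r₁ r₂ : Z₂ ⟶ Z₁} (e : r₁ = r₂) (h₁ : r₁ ≫ p₁ = p₂) (h₂ : r₂ ≫ p₁ = p₂) :
    P.res r₁ h₁ = P.res r₂ h₂ := by
  subst e
  rfl

end YData

variable {I : Type u} [Category.{u} I] (Z : I ⥤ Scheme.{u})
  (t : Z ⟶ (Functor.const I).obj S) (c : Cone Z) (tS : c.pt ⟶ S)
  (htS : ∀ j, c.π.app j ≫ t.app j = tS)

/-- restriction to the limit does not depend on the stage. -/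
theorem res_π {j k : I} (φ : k ⟶ j) (Q : YData D r₀ (t.app j)) :
    (Q.res (Z.map φ) (map_t Z t φ)).res (c.π.app k) (htS k) = Q.res (c.π.app j) (htS j) := by
  rw [YData.res_res]
  exact YData.res_congr Q (c.w φ) _ _

variable [IsCofiltered I] [∀ {i j} (f : i ⟶ j), IsAffineHom (Z.map f)] (hc : IsLimit c)

include hc in
theorem exists_inv [LocallyOfFiniteType r₀]
    (hR : ∀ j, CompactSpace ↥(pullback (fR D) (t.app j) : Scheme.{u}))
    {j : I} (Q : YData D r₀ (t.app j)) (h : (Q.res (c.π.app j) (htS j)).Inv) :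
    ∃ (k : I) (φ : k ⟶ j), (Q.res (Z.map φ) (map_t Z t φ)).Inv := by
  obtain ⟨k, φ, hk⟩ := exists_eq_of_lft Z t c tS htS (fR D) hR hc r₀
    (tm D (t.app j) ≫ Q.n') (fs D (t.app j) ≫ Q.n')
    (by rw [Category.assoc, Q.hn, tm_snd_assoc]) (by rw [Category.assoc, Q.hn, fs_snd_assoc])
    (by
      have h' : tm D tS ≫ baseMap (fV D) tS (t.app j) (c.π.app j) (htS j) ≫ Q.n' =
        fs D tS ≫ baseMap (fV D) tS (t.app j) (c.π.app j) (htS j) ≫ Q.n' := h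
      change baseMap (fR D) tS (t.app j) (c.π.app j) (htS j) ≫ tm D (t.app j) ≫ Q.n' =
        baseMap (fR D) tS (t.app j) (c.π.app j) (htS j) ≫ fs D (t.app j) ≫ Q.n'
      rw [← Category.assoc, baseMap_tm, Category.assoc, h', ← Category.assoc (fs D tS),
        ← baseMap_fs, Category.assoc])
  refine ⟨k, φ, ?_⟩
  change tm D (t.app k) ≫ baseMap (fV D) (t.app k) (t.app j) (Z.map φ) (map_t Z t φ) ≫ Q.n' =
    fs D (t.app k) ≫ baseMap (fV D) (t.app k) (t.app j) (Z.map φ) (map_t Z t φ) ≫ Q.n'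
  rw [← Category.assoc, ← baseMap_tm, ← Category.assoc (fs D (t.app k)), ← baseMap_fs,
    Category.assoc, Category.assoc]
  exact hk

include hc in
theorem exists_e1 [LocallyOfFiniteType (fV D)]
    (hV : ∀ j, CompactSpace ↥(pullback (fV D) (t.app j) : Scheme.{u}))
    {j : I} (Q : YData D r₀ (t.app j)) (h : (Q.res (c.π.app j) (htS j)).E1) :
    ∃ (k : I) (φ : k ⟶ j), (Q.res (Z.map φ) (map_t Z t φ)).E1 := by
  obtain ⟨k, φ, hk⟩ := exists_eq_of_lft Z t c tS htS (fV D) hV hc (fV D)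
    (γ D r₀ (t.app j) Q.n' Q.hn ≫ Q.ψ') (pullback.fst (fV D) (t.app j))
    (by rw [Category.assoc, Q.hψ, γ_snd_assoc]) pullback.condition
    (by
      have h' : γ D r₀ tS (baseMap (fV D) tS (t.app j) (c.π.app j) (htS j) ≫ Q.n')
          (res_w D r₀ (t.app j) tS (c.π.app j) (htS j) Q.hn) ≫
          baseMap (fY (g := g) r₀) tS (t.app j) (c.π.app j) (htS j) ≫ Q.ψ' =
        pullback.fst (fV D) tS := h
      change baseMap (fV D) tS (t.app j) (c.π.app j) (htS j) ≫ γ D r₀ (t.app j) Q.n' Q.hn ≫ Q.ψ' =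
        baseMap (fV D) tS (t.app j) (c.π.app j) (htS j) ≫ pullback.fst (fV D) (t.app j)
      rw [← Category.assoc, baseMap_γ, Category.assoc, h', baseMap_fst])
  refine ⟨k, φ, ?_⟩
  change γ D r₀ (t.app k) (baseMap (fV D) (t.app k) (t.app j) (Z.map φ) (map_t Z t φ) ≫ Q.n')
      (res_w D r₀ (t.app j) (t.app k) (Z.map φ) (map_t Z t φ) Q.hn) ≫
      baseMap (fY (g := g) r₀) (t.app k) (t.app j) (Z.map φ) (map_t Z t φ) ≫ Q.ψ' =
    pullback.fst (fV D) (t.app k)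
  rw [← Category.assoc, ← baseMap_γ, Category.assoc]
  refine hk.trans ?_
  exact bcMap_fst Z t (fV D) φ

include hc in
theorem exists_e2a [LocallyOfFiniteType g]
    (hY : ∀ j, CompactSpace ↥(pullback (fY (g := g) r₀) (t.app j) : Scheme.{u}))
    {j : I} (Q : YData D r₀ (t.app j)) (h : (Q.res (c.π.app j) (htS j)).E2a) :
    ∃ (k : I) (φ : k ⟶ j), (Q.res (Z.map φ) (map_t Z t φ)).E2a := by
  obtain ⟨k, φ, hk⟩ := exists_eq_of_lft Z t c tS htS (fY (g := g) r₀) hY hc g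
    (Q.ψ' ≫ D.obj.hom) (pullback.fst (fY (g := g) r₀) (t.app j) ≫ pullback.fst g r₀)
    (by rw [Category.assoc]; exact Q.hψ) (by rw [Category.assoc]; exact pullback.condition)
    (by
      have h' : (baseMap (fY (g := g) r₀) tS (t.app j) (c.π.app j) (htS j) ≫ Q.ψ') ≫ D.obj.hom =
        pullback.fst (fY (g := g) r₀) tS ≫ pullback.fst g r₀ := h
      change baseMap (fY (g := g) r₀) tS (t.app j) (c.π.app j) (htS j) ≫ Q.ψ' ≫ D.obj.hom =
        baseMap (fY (g := g) r₀) tS (t.app j) (c.π.app j) (htS j) ≫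
          pullback.fst (fY (g := g) r₀) (t.app j) ≫ pullback.fst g r₀
      rw [← Category.assoc, h', baseMap_fst_assoc])
  refine ⟨k, φ, ?_⟩
  change (baseMap (fY (g := g) r₀) (t.app k) (t.app j) (Z.map φ) (map_t Z t φ) ≫ Q.ψ') ≫
      D.obj.hom = pullback.fst (fY (g := g) r₀) (t.app k) ≫ pullback.fst g r₀
  rw [Category.assoc]
  refine hk.trans ?_
  exact bcMap_fst_assoc Z t (fY (g := g) r₀) φ _

include hc in
theorem exists_e2b [LocallyOfFiniteType r₀]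
    (hY : ∀ j, CompactSpace ↥(pullback (fY (g := g) r₀) (t.app j) : Scheme.{u}))
    {j : I} (Q : YData D r₀ (t.app j)) (h : (Q.res (c.π.app j) (htS j)).E2b) :
    ∃ (k : I) (φ : k ⟶ j), (Q.res (Z.map φ) (map_t Z t φ)).E2b := by
  obtain ⟨k, φ, hk⟩ := exists_eq_of_lft Z t c tS htS (fY (g := g) r₀) hY hc r₀
    (Q.ζ ≫ Q.n') (pullback.fst (fY (g := g) r₀) (t.app j) ≫ pullback.snd g r₀)
    (by rw [Category.assoc, Q.hn, YData.ζ_snd_assoc])
    (by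
      rw [Category.assoc, ← pullback.condition (f := g) (g := r₀)]
      exact pullback.condition)
    (by
      have h' : (Q.res (c.π.app j) (htS j)).ζ ≫
          baseMap (fV D) tS (t.app j) (c.π.app j) (htS j) ≫ Q.n' =
        pullback.fst (fY (g := g) r₀) tS ≫ pullback.snd g r₀ := h
      change baseMap (fY (g := g) r₀) tS (t.app j) (c.π.app j) (htS j) ≫ Q.ζ ≫ Q.n' =
        baseMap (fY (g := g) r₀) tS (t.app j) (c.π.app j) (htS j) ≫
          pullback.fst (fY (g := g) r₀) (t.app j) ≫ pullback.snd g r₀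
      rw [← Category.assoc, YData.baseMap_ζ, Category.assoc, h', baseMap_fst_assoc])
  refine ⟨k, φ, ?_⟩
  change (Q.res (Z.map φ) (map_t Z t φ)).ζ ≫
      baseMap (fV D) (t.app k) (t.app j) (Z.map φ) (map_t Z t φ) ≫ Q.n' =
    pullback.fst (fY (g := g) r₀) (t.app k) ≫ pullback.snd g r₀
  rw [← Category.assoc, ← YData.baseMap_ζ, Category.assoc]
  refine hk.trans ?_
  exact bcMap_fst_assoc Z t (fY (g := g) r₀) φ _

include hc htS in
/-- quotient data with an inverse over the limit come from a finite stage. -/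
theorem exists_stage [LocallyOfFinitePresentation r₀] [LocallyOfFinitePresentation (fV D)]
    [LocallyOfFiniteType g]
    (hV : ∀ j, CompactSpace ↥(pullback (fV D) (t.app j) : Scheme.{u}))
    (hV' : ∀ j, QuasiSeparatedSpace ↥(pullback (fV D) (t.app j) : Scheme.{u}))
    (hR : ∀ j, CompactSpace ↥(pullback (fR D) (t.app j) : Scheme.{u}))
    (hY : ∀ j, CompactSpace ↥(pullback (fY (g := g) r₀) (t.app j) : Scheme.{u}))
    (hY' : ∀ j, QuasiSeparatedSpace ↥(pullback (fY (g := g) r₀) (t.app j) : Scheme.{u}))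
    (P : YData D r₀ tS) (h0 : P.Inv) (h1 : P.E1) (h2 : P.E2a) (h3 : P.E2b) :
    ∃ (j : I) (Q : YData D r₀ (t.app j)), Q.Inv ∧ Q.E1 ∧ Q.E2a ∧ Q.E2b := by
  obtain ⟨j₁, n₁, hn₁, hn₁'⟩ := exists_hom_of_lfp Z t c tS htS (fV D) hV hc hV' r₀ P.n' P.hn
  obtain ⟨j₂, ψ₂, hψ₂, hψ₂'⟩ :=
    exists_hom_of_lfp Z t c tS htS (fY (g := g) r₀) hY hc hY' (fV D) P.ψ' P.hψ
  let j₀ := IsCofiltered.min j₁ j₂
  let Q₀ : YData D r₀ (t.app j₀) :=
    { n' := bcMap Z t (fV D) (IsCofiltered.minToLeft j₁ j₂) ≫ n₁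
      ψ' := bcMap Z t (fY (g := g) r₀) (IsCofiltered.minToRight j₁ j₂) ≫ ψ₂
      hn := by rw [Category.assoc, hn₁', bcMap_snd_assoc, map_t]
      hψ := by rw [Category.assoc, hψ₂', bcMap_snd_assoc, map_t] }
  have hQ₀ : Q₀.res (c.π.app j₀) (htS j₀) = P := by
    apply YData.ext'
    · change bcπ Z t (fV D) c tS htS j₀ ≫ bcMap Z t (fV D) (IsCofiltered.minToLeft j₁ j₂) ≫ n₁ = _
      rw [← Category.assoc, bcπ_bcMap, hn₁]
    · change bcπ Z t (fY (g := g) r₀) c tS htS j₀ ≫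
        bcMap Z t (fY (g := g) r₀) (IsCofiltered.minToRight j₁ j₂) ≫ ψ₂ = _
      rw [← Category.assoc, bcπ_bcMap, hψ₂]
  subst hQ₀
  obtain ⟨k₁, φ₁, a1⟩ := exists_inv Z t c tS htS hc hR Q₀ h0
  have e1 := res_π Z t c tS htS φ₁ Q₀
  rw [← e1] at h1 h2 h3
  obtain ⟨k₂, φ₂, b2⟩ := exists_e1 Z t c tS htS hc hV _ h1
  have a2 := YData.Inv.res _ (Z.map φ₂) (map_t Z t φ₂) a1
  have e2 := res_π Z t c tS htS φ₂ (Q₀.res (Z.map φ₁) (map_t Z t φ₁))
  rw [← e2] at h2 h3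
  obtain ⟨k₃, φ₃, c3⟩ := exists_e2a Z t c tS htS hc hY _ h2
  have a3 := YData.Inv.res _ (Z.map φ₃) (map_t Z t φ₃) a2
  have b3 := YData.E1.res _ (Z.map φ₃) (map_t Z t φ₃) b2
  have e3 := res_π Z t c tS htS φ₃
    ((Q₀.res (Z.map φ₁) (map_t Z t φ₁)).res (Z.map φ₂) (map_t Z t φ₂))
  rw [← e3] at h3
  obtain ⟨k₄, φ₄, d4⟩ := exists_e2b Z t c tS htS hc hY _ h3
  exact ⟨k₄, _, YData.Inv.res _ (Z.map φ₄) (map_t Z t φ₄) a3,
    YData.E1.res _ (Z.map φ₄) (map_t Z t φ₄) b3, YData.E2a.res _ (Z.map φ₄) (map_t Z t φ₄) c3, d4⟩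

end Groth.Agent.H40.Lm
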