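import Groth.Agent.H40.Bi.Main

/-!
# The `(v, y)`-model `V ×_S Z` of the base change of a descent datum, and quotients in it
-/

set_option autoImplicit false
set_option backward.isDefEq.respectTransparency.types false
universe w u

open CategoryTheory CategoryTheory.Limits AlgebraicGeometry

namespace Groth.Agent.H40.Lm

open Desc Groth.Agent.H40.DQ Groth.Agent.H40.DGE Groth.Agent.H40.Bi

variable {S' S : Scheme.{u}} {g : S' ⟶ S} (D : Desc.SchDD g)

/-- `V ⟶ S`. -/
noncomputable abbrev fV : D.obj.left ⟶ S := D.obj.hom ≫ g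

/-- `R = V ×_S S' ⟶ S`. -/
noncomputable abbrev fR : RL D ⟶ S := pullback.fst (D.obj.hom ≫ g) g ≫ D.obj.hom ≫ g

theorem tmor_fV : tmor D ≫ fV D = fR D := by
  change tmor D ≫ D.obj.hom ≫ g = _
  rw [tmor_hom_assoc]
  exact pullback.condition.symm

variable {Z : Scheme.{u}} (p : Z ⟶ S)

/-- `R ×_S Z ⟶ V ×_S Z`, the transport. -/
noncomputable def tm : pullback (fR D) p ⟶ pullback (fV D) p :=
  pullback.lift (pullback.fst (fR D) p ≫ tmor D) (pullback.snd (fR D) p) (by
    rw [Category.assoc, tmor_fV, pullback.condition])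

/-- `R ×_S Z ⟶ V ×_S Z`, the projection. -/
noncomputable def fs : pullback (fR D) p ⟶ pullback (fV D) p :=
  pullback.lift (pullback.fst (fR D) p ≫ pullback.fst (D.obj.hom ≫ g) g) (pullback.snd (fR D) p) (by
    rw [Category.assoc]
    exact pullback.condition)

@[reassoc (attr := simp)]
theorem tm_fst : tm D p ≫ pullback.fst (fV D) p = pullback.fst (fR D) p ≫ tmor D :=
  pullback.lift_fst _ _ _

@[reassoc (attr := simp)]
theorem tm_snd : tm D p ≫ pullback.snd (fV D) p = pullback.snd (fR D) p :=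
  pullback.lift_snd _ _ _

@[reassoc (attr := simp)]
theorem fs_fst : fs D p ≫ pullback.fst (fV D) p =
    pullback.fst (fR D) p ≫ pullback.fst (D.obj.hom ≫ g) g :=
  pullback.lift_fst _ _ _

@[reassoc (attr := simp)]
theorem fs_snd : fs D p ≫ pullback.snd (fV D) p = pullback.snd (fR D) p :=
  pullback.lift_snd _ _ _

/-- `V ×_S Z ⟶ V ×_{S'} (S' ×_S Z)`. -/
noncomputable def ι : pullback (fV D) p ⟶ V₁ p D :=
  pullback.lift (pullback.fst (fV D) p)
    (pullback.lift (pullback.fst (fV D) p ≫ D.obj.hom) (pullback.snd (fV D) p) (by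
      rw [Category.assoc]
      exact pullback.condition)) (by rw [pullback.lift_fst])

/-- `V ×_{S'} (S' ×_S Z) ⟶ V ×_S Z`. -/
noncomputable def ιinv : V₁ p D ⟶ pullback (fV D) p :=
  pullback.lift (pullback.fst D.obj.hom (pullback.fst g p))
    (pullback.snd D.obj.hom (pullback.fst g p) ≫ pullback.snd g p) (by
      change pullback.fst D.obj.hom (pullback.fst g p) ≫ D.obj.hom ≫ g = _
      rw [pullback.condition_assoc, pullback.condition, Category.assoc])

@[reassoc (attr := simp)]
theorem ι_fst : ι D p ≫ pullback.fst D.obj.hom (pullback.fst g p) = pullback.fst (fV D) p :=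
  pullback.lift_fst _ _ _

@[reassoc (attr := simp)]
theorem ι_snd_fst : ι D p ≫ pullback.snd D.obj.hom (pullback.fst g p) ≫ pullback.fst g p =
    pullback.fst (fV D) p ≫ D.obj.hom := by
  unfold ι
  rw [pullback.lift_snd_assoc, pullback.lift_fst]

@[reassoc (attr := simp)]
theorem ι_snd_snd : ι D p ≫ pullback.snd D.obj.hom (pullback.fst g p) ≫ pullback.snd g p =
    pullback.snd (fV D) p := by
  unfold ι
  rw [pullback.lift_snd_assoc, pullback.lift_snd]

@[reassoc (attr := simp)]
theorem ιinv_fst : ιinv D p ≫ pullback.fst (fV D) p = pullback.fst D.obj.hom (pullback.fst g p) :=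
  pullback.lift_fst _ _ _

@[reassoc (attr := simp)]
theorem ιinv_snd : ιinv D p ≫ pullback.snd (fV D) p =
    pullback.snd D.obj.hom (pullback.fst g p) ≫ pullback.snd g p :=
  pullback.lift_snd _ _ _

@[reassoc (attr := simp)]
theorem ι_ιinv : ι D p ≫ ιinv D p = 𝟙 _ := by
  apply pullback.hom_ext
  · rw [Category.assoc, ιinv_fst, ι_fst, Category.id_comp]
  · rw [Category.assoc, ιinv_snd, ι_snd_snd, Category.id_comp]

@[reassoc (attr := simp)]
theorem ιinv_ι : ιinv D p ≫ ι D p = 𝟙 _ := by
  apply pullback.hom_ext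
  · rw [Category.assoc, ι_fst, ιinv_fst, Category.id_comp]
  · apply pullback.hom_ext
    · rw [Category.assoc, Category.assoc, ι_snd_fst, ιinv_fst_assoc, Category.id_comp,
        pullback.condition]
    · rw [Category.assoc, Category.assoc, ι_snd_snd, ιinv_snd, Category.id_comp]

instance : IsIso (ι D p) := ⟨ιinv D p, ι_ιinv D p, ιinv_ι D p⟩

instance : IsIso (ιinv D p) := ⟨ι D p, ιinv_ι D p, ι_ιinv D p⟩

/-- the `X₁`-point of `R ×_S Z` used for the transport. -/
noncomputable def xR : pullback (fR D) p ⟶ pullback g p :=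
  pullback.lift (pullback.fst (fR D) p ≫ pullback.snd (D.obj.hom ≫ g) g) (pullback.snd (fR D) p) (by
    rw [Category.assoc, ← pullback.condition (f := D.obj.hom ≫ g) (g := g)]
    exact pullback.condition)

@[reassoc (attr := simp)]
theorem xR_fst : xR D p ≫ pullback.fst g p =
    pullback.fst (fR D) p ≫ pullback.snd (D.obj.hom ≫ g) g := pullback.lift_fst _ _ _

@[reassoc (attr := simp)]
theorem xR_snd : xR D p ≫ pullback.snd g p = pullback.snd (fR D) p := pullback.lift_snd _ _ _

theorem tm_ι_aux :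
    (((fs D p ≫ ι D p) ≫ pullback.snd D.obj.hom (pullback.fst g p)) ≫ pullback.fst g p) ≫ g =
      (xR D p ≫ pullback.fst g p) ≫ g := by
  have h1 : pullback.fst (D.obj.hom ≫ g) g ≫ D.obj.hom ≫ g =
      pullback.snd (D.obj.hom ≫ g) g ≫ g := pullback.condition
  simp only [Category.assoc]
  rw [ι_snd_fst_assoc, fs_fst_assoc, xR_fst_assoc, h1]

/-- the transport in the `(v, y)`-model is the transport `trV`. -/
theorem tm_ι : tm D p ≫ ι D p = trV (fs D p ≫ ι D p) (xR D p) (tm_ι_aux D p) := by
  apply trV_ext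
  · rw [Category.assoc, ι_fst, tm_fst, comp_tmor]
    apply tr_congr
    · simp only [Category.assoc, ι_fst, fs_fst]
    · simp only [Category.assoc, xR_fst]
  · apply pullback.hom_ext
    · rw [Category.assoc, Category.assoc, ι_snd_fst, tm_fst_assoc, tmor_hom, xR_fst]
    · rw [Category.assoc, Category.assoc, ι_snd_snd, tm_snd, xR_snd]

end Groth.Agent.H40.Lm
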