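import Groth.Agent.H40.Lm.Stage
import Groth.Agent.H24.FieldPoint

/-!
# Effectivity near a point is equivalent to effectivity over the local ring (SGA 1 IX)
-/

set_option autoImplicit false
set_option backward.isDefEq.respectTransparency.types false
universe w u

open CategoryTheory CategoryTheory.Limits AlgebraicGeometry Opposite

namespace Groth.Agent.H40.Lm

open Desc Groth.Agent.H40.Bi Groth.Agent.H24.FieldPoint

section nhd

variable (S : Scheme.{u}) (a : S)

/-- the system of affine open neighbourhoods of `a`. -/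
noncomputable abbrev nZ : (Nhd S a)ᵒᵖ ⥤ Scheme.{u} := nhdDiagram S a (𝟙 S) ⋙ Over.forget S

theorem nZ_map_fromSpec {U V : (Nhd S a)ᵒᵖ} (m : U ⟶ V) :
    (nZ S a).map m ≫ V.unop.isAffineOpen.fromSpec = U.unop.isAffineOpen.fromSpec := by
  have h2 : (nZ S a).map m ≫ V.unop.isAffineOpen.fromSpec ≫ 𝟙 S =
      U.unop.isAffineOpen.fromSpec ≫ 𝟙 S := Over.w ((nhdDiagram S a (𝟙 S)).map m)
  simpa only [Category.comp_id] using h2

/-- the structure morphisms. -/
noncomputable def nT : nZ S a ⟶ (Functor.const (Nhd S a)ᵒᵖ).obj S where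
  app U := U.unop.isAffineOpen.fromSpec
  naturality U V m := (nZ_map_fromSpec S a m).trans (Category.comp_id _).symm

/-- the cone with point the spectrum of the local ring. -/
noncomputable abbrev nC : Cone (nZ S a) := (Over.forget S).mapCone (nhdCone S a (𝟙 S))

theorem nC_htS (U : (Nhd S a)ᵒᵖ) :
    (nC S a).π.app U ≫ (nT S a).app U = S.fromSpecStalk a := by
  have h2 : (nC S a).π.app U ≫ U.unop.isAffineOpen.fromSpec ≫ 𝟙 S = S.fromSpecStalk a ≫ 𝟙 S :=
    Over.w ((nhdCone S a (𝟙 S)).π.app U)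
  simp only [Category.comp_id] at h2
  exact h2

/-- the spectrum of the local ring is the limit. -/
noncomputable def nHc : IsLimit (nC S a) := by
  haveI : IsConnected (Nhd S a)ᵒᵖ := IsCofiltered.isConnected _
  exact isLimitOfPreserves (Over.forget S) (isLimitNhdCone S a (𝟙 S))

instance {U V : (Nhd S a)ᵒᵖ} (m : U ⟶ V) : IsAffineHom ((nZ S a).map m) :=
  inferInstanceAs (IsAffineHom (Spec.map ((nhdRing S a).map m.unop)))

instance (U : (Nhd S a)ᵒᵖ) : CompactSpace ((nZ S a).obj U) :=
  inferInstanceAs (CompactSpace (Spec Γ(S, U.unop.opens)))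

instance (U : (Nhd S a)ᵒᵖ) : QuasiSeparatedSpace ((nZ S a).obj U) :=
  inferInstanceAs (QuasiSeparatedSpace (Spec Γ(S, U.unop.opens)))

instance (U : (Nhd S a)ᵒᵖ) : IsOpenImmersion ((nT S a).app U) :=
  inferInstanceAs (IsOpenImmersion U.unop.isAffineOpen.fromSpec)

end nhd

variable {S S' : Scheme.{u}} (g : S' ⟶ S) [Surjective g] [LocallyOfFinitePresentation g]
  [QuasiCompact g] [QuasiSeparated g] (Dm : SchDDFam (fun _ : PUnit.{w + 1} => g))
  [Etale ((SchDDFam.toSchDD g).obj Dm).obj.hom] [QuasiCompact ((SchDDFam.toSchDD g).obj Dm).obj.hom]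
  [QuasiSeparated ((SchDDFam.toSchDD g).obj Dm).obj.hom]

/-- effectivity over an open neighbourhood of `a` is equivalent to effectivity over the local
ring at `a`. -/
theorem nhd_iff_stalk (a : S) :
    (∃ W : S.Opens, a ∈ W ∧ (∃ U : Over (W : Scheme.{u}), Etale U.hom ∧
        Nonempty ((toDDFam (fun _ : PUnit.{w + 1} => pullback.snd g W.ι)).obj U ≅
          bcFam (p := W.ι) Dm))) ↔
      (∃ U : Over (Spec (S.presheaf.stalk a)), Etale U.hom ∧
        Nonempty ((toDDFam (fun _ : PUnit.{w + 1} => pullback.snd g (S.fromSpecStalk a))).obj U ≅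
          bcFam (p := S.fromSpecStalk a) Dm)) := by
  constructor
  · rintro ⟨W, haW, H⟩
    exact effective_precomp Dm W.ι (W.fromSpecStalkOfMem a haW) (S.fromSpecStalk a)
      (Scheme.Opens.fromSpecStalkOfMem_ι W a haW) H
  · rintro ⟨U, hU, ⟨e⟩⟩
    have key : ∀ (U : Over (nC S a).pt) [Etale U.hom]
        (e : (toDDFam (fun _ : PUnit.{w + 1} => pullback.snd g (S.fromSpecStalk a))).obj U ≅
          bcFam (p := S.fromSpecStalk a) Dm),
        ∃ (j : (Nhd S a)ᵒᵖ) (Uj : Over ((nZ S a).obj j)), Etale Uj.hom ∧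
          Nonempty ((toDDFam (fun _ : PUnit.{w + 1} => pullback.snd g ((nT S a).app j))).obj Uj ≅
            bcFam (p := (nT S a).app j) Dm) := fun U _ e =>
      exists_stage_effective (nZ S a) (nT S a) (nC S a) (S.fromSpecStalk a)
        (nC_htS S a) (nHc S a) g Dm U e
    obtain ⟨j, H⟩ := @key U hU e
    refine ⟨j.unop.opens, j.unop.mem, ?_⟩
    exact effective_precomp Dm j.unop.isAffineOpen.fromSpec j.unop.isAffineOpen.isoSpec.hom
      j.unop.opens.ι j.unop.isAffineOpen.isoSpec_hom_fromSpec H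

end Groth.Agent.H40.Lm
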