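import Groth.Agent.H40.Lm.Nhd
import Groth.Agent.H1.Descent
import Groth.Agent.S2074

/-!
# Properness spreads out from the local ring to a neighbourhood
-/

set_option autoImplicit false
set_option backward.isDefEq.respectTransparency.types false
universe u

open CategoryTheory CategoryTheory.Limits AlgebraicGeometry Opposite MorphismProperty

namespace Groth.Agent.H40.Lm

open Groth.Agent.H24.FieldPoint Groth.Agent.H24.OverBC

variable {X Y S : Scheme.{u}} (f : X ⟶ Y) (g : Y ⟶ S)

/-- properness of the base change descends along an fpqc base change of the base. -/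
theorem isProper_of_fpqc {Z₁ Z₂ : Scheme.{u}} (p₁ : Z₁ ⟶ S) (c : Z₂ ⟶ Z₁) [Flat c] [Surjective c]
    [QuasiCompact c]
    (h : IsProper (pullback.snd f (pullback.fst g (c ≫ p₁)))) :
    IsProper (pullback.snd f (pullback.fst g p₁)) := by
  have sq1 := isPullback_baseMap g (c ≫ p₁) p₁ c rfl
  have hβ : Groth.Agent.H1.fpqc (baseMap g (c ≫ p₁) p₁ c rfl) :=
    ⟨⟨MorphismProperty.of_isPullback (P := @Surjective) sq1.flip inferInstance,
      MorphismProperty.of_isPullback (P := @Flat) sq1.flip inferInstance⟩,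
      MorphismProperty.of_isPullback (P := @QuasiCompact) sq1.flip inferInstance⟩
  have sq2 := isPullback_baseMap f (pullback.fst g (c ≫ p₁)) (pullback.fst g p₁)
    (baseMap g (c ≫ p₁) p₁ c rfl) (baseMap_fst g (c ≫ p₁) p₁ c rfl)
  haveI := Groth.Agent.H1.isProper_descendsAlong_fpqc.{u}
  exact DescendsAlong.of_isPullback (P := @IsProper) (Q := Groth.Agent.H1.fpqc) sq2.flip hβ h

section nhd

variable [QuasiCompact g] [QuasiSeparated g] [QuasiCompact (f ≫ g)] [QuasiSeparated (f ≫ g)]
  [LocallyOfFiniteType (f ≫ g)] (s : S)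

/-- properness over the local ring spreads out to an affine open neighbourhood. -/
theorem exists_nhd_isProper
    (h : IsProper (pullback.snd f (pullback.fst g (S.fromSpecStalk s)))) :
    ∃ W : S.Opens, s ∈ W ∧ IsProper (f ∣_ (g ⁻¹ᵁ W)) := by
  obtain ⟨j₀⟩ : Nonempty (Nhd S s)ᵒᵖ := ⟨op (Classical.arbitrary _)⟩
  haveI : ∀ (i j : (Nhd S s)ᵒᵖ) (φ : i ⟶ j), IsAffineHom ((nZ S s).map φ) :=
    fun _ _ φ => inferInstance
  haveI : LocallyOfFiniteType f := locallyOfFiniteType_of_comp f g
  -- the stage `j₀`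
  have sqX₀ : IsPullback (pullback.fst f (pullback.fst g j₀.unop.isAffineOpen.fromSpec))
      (pullback.snd f (pullback.fst g j₀.unop.isAffineOpen.fromSpec) ≫
        pullback.snd g j₀.unop.isAffineOpen.fromSpec) (f ≫ g) j₀.unop.isAffineOpen.fromSpec :=
    (IsPullback.of_hasPullback f (pullback.fst g j₀.unop.isAffineOpen.fromSpec)).paste_vert
      (IsPullback.of_hasPullback g j₀.unop.isAffineOpen.fromSpec)
  haveI : QuasiCompact (pullback.snd f (pullback.fst g j₀.unop.isAffineOpen.fromSpec) ≫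
        pullback.snd g j₀.unop.isAffineOpen.fromSpec) :=
    MorphismProperty.of_isPullback (P := @QuasiCompact) sqX₀ inferInstance
  haveI : QuasiSeparated (pullback.snd f (pullback.fst g j₀.unop.isAffineOpen.fromSpec) ≫
        pullback.snd g j₀.unop.isAffineOpen.fromSpec) :=
    MorphismProperty.of_isPullback (P := @QuasiSeparated) sqX₀ inferInstance
  haveI : CompactSpace ↥(Spec Γ(S, j₀.unop.opens)) := inferInstance
  haveI : CompactSpace ↥(pullback g j₀.unop.isAffineOpen.fromSpec : Scheme.{u}) :=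
    QuasiCompact.compactSpace_of_compactSpace (pullback.snd g j₀.unop.isAffineOpen.fromSpec)
  haveI : QuasiSeparatedSpace ↥(pullback g j₀.unop.isAffineOpen.fromSpec : Scheme.{u}) :=
    quasiSeparatedSpace_of_quasiSeparated (pullback.snd g j₀.unop.isAffineOpen.fromSpec)
  haveI : CompactSpace ↥(pullback f (pullback.fst g j₀.unop.isAffineOpen.fromSpec) : Scheme.{u}) :=
    QuasiCompact.compactSpace_of_compactSpace
      (pullback.snd f (pullback.fst g j₀.unop.isAffineOpen.fromSpec) ≫
        pullback.snd g j₀.unop.isAffineOpen.fromSpec)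
  haveI : QuasiSeparatedSpace
      ↥(pullback f (pullback.fst g j₀.unop.isAffineOpen.fromSpec) : Scheme.{u}) :=
    quasiSeparatedSpace_of_quasiSeparated
      (pullback.snd f (pullback.fst g j₀.unop.isAffineOpen.fromSpec) ≫
        pullback.snd g j₀.unop.isAffineOpen.fromSpec)
  haveI : IsProper (pullback.snd f (pullback.fst g (S.fromSpecStalk s))) := h
  have hπ : (nC S s).π.app j₀ ≫ j₀.unop.isAffineOpen.fromSpec = S.fromSpecStalk s :=
    nC_htS S s j₀
  have hY := isPullback_baseMap g (S.fromSpecStalk s) j₀.unop.isAffineOpen.fromSpec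
    ((nC S s).π.app j₀) hπ
  have hX := isPullback_baseMap f (pullback.fst g (S.fromSpecStalk s))
    (pullback.fst g j₀.unop.isAffineOpen.fromSpec)
    (baseMap g (S.fromSpecStalk s) j₀.unop.isAffineOpen.fromSpec ((nC S s).π.app j₀) hπ)
    (baseMap_fst g (S.fromSpecStalk s) j₀.unop.isAffineOpen.fromSpec ((nC S s).π.app j₀) hπ)
  obtain ⟨i, φ, Xi, Yi, fi, gi, pY, pX, s1, s2, hfi⟩ := Groth.Agent.S2074.result (nZ S s) (nC S s)
    (nHc S s) j₀ (pullback.snd f (pullback.fst g j₀.unop.isAffineOpen.fromSpec))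
    (pullback.snd g j₀.unop.isAffineOpen.fromSpec)
    (pullback.snd f (pullback.fst g (S.fromSpecStalk s))) (pullback.snd g (S.fromSpecStalk s))
    _ _ hY hX
  refine ⟨i.unop.opens, i.unop.mem, ?_⟩
  -- `Yi = Y ×_S Z_i` and `Xi = X ×_Y Yi`
  have hφ : (nZ S s).map φ ≫ j₀.unop.isAffineOpen.fromSpec = i.unop.isAffineOpen.fromSpec :=
    nZ_map_fromSpec S s φ
  have sqYi : IsPullback (pY ≫ pullback.fst g j₀.unop.isAffineOpen.fromSpec) gi g
      i.unop.isAffineOpen.fromSpec := by
    have := s1.paste_horiz (IsPullback.of_hasPullback g j₀.unop.isAffineOpen.fromSpec)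
    rwa [hφ] at this
  have sqXi : IsPullback (pX ≫ pullback.fst f (pullback.fst g j₀.unop.isAffineOpen.fromSpec)) fi f
      (pY ≫ pullback.fst g j₀.unop.isAffineOpen.fromSpec) :=
    s2.paste_horiz (IsPullback.of_hasPullback f (pullback.fst g j₀.unop.isAffineOpen.fromSpec))
  have hm : (g ⁻¹ᵁ i.unop.opens).ι ≫ g =
      (g ∣_ i.unop.opens ≫ i.unop.isAffineOpen.isoSpec.hom) ≫ i.unop.isAffineOpen.fromSpec := by
    rw [Category.assoc, IsAffineOpen.isoSpec_hom_fromSpec, morphismRestrict_ι]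
  have hl : (f ⁻¹ᵁ (g ⁻¹ᵁ i.unop.opens)).ι ≫ f =
      (f ∣_ (g ⁻¹ᵁ i.unop.opens) ≫ sqYi.lift _ _ hm) ≫
        pY ≫ pullback.fst g j₀.unop.isAffineOpen.fromSpec := by
    rw [Category.assoc, sqYi.lift_fst, morphismRestrict_ι]
  have t : IsPullback (sqXi.lift _ _ hl ≫
      pX ≫ pullback.fst f (pullback.fst g j₀.unop.isAffineOpen.fromSpec))
      (f ∣_ (g ⁻¹ᵁ i.unop.opens)) f
      (sqYi.lift _ _ hm ≫ pY ≫ pullback.fst g j₀.unop.isAffineOpen.fromSpec) := by
    rw [sqXi.lift_fst, sqYi.lift_fst]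
    exact (isPullback_morphismRestrict f (g ⁻¹ᵁ i.unop.opens)).flip
  have sq := IsPullback.of_right t (sqXi.lift_snd _ _ hl) sqXi
  exact MorphismProperty.of_isPullback (P := @IsProper) sq hfi

end nhd

end Groth.Agent.H40.Lm
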