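import Groth.Agent.H40.Lm.Nhd

/-!
# A pseudo-morphism is defined at a point iff it is defined over the local ring (EGA IV 20.3)
-/

set_option autoImplicit false
set_option backward.isDefEq.respectTransparency.types false
universe u

open CategoryTheory CategoryTheory.Limits AlgebraicGeometry Opposite TopologicalSpace

namespace Groth.Agent.H40.Lm

open Groth.Agent.H24.FieldPoint Groth.Agent.H24.OverBC

section easy

variable {X Y S : Scheme.{u}} (pX : X ⟶ S) (pY : Y ⟶ S) (U : X.Opens) (h : (U : Scheme.{u}) ⟶ Y)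
  (x : X)

/-- the canonical morphism `Spec 𝒪_{X,x} ×_X U ⟶ U ∩ V`. -/
noncomputable def toInf (V : X.Opens) (hx : x ∈ V) :
    pullback (X.fromSpecStalk x) U.ι ⟶ ((U ⊓ V : X.Opens) : Scheme.{u}) :=
  (isPullback_opens_inf U V).lift (pullback.snd (X.fromSpecStalk x) U.ι)
    (pullback.fst (X.fromSpecStalk x) U.ι ≫ V.fromSpecStalkOfMem x hx) (by
      rw [Category.assoc, Scheme.Opens.fromSpecStalkOfMem_ι]
      exact pullback.condition.symm)

@[reassoc (attr := simp)]
theorem toInf_left (V : X.Opens) (hx : x ∈ V) :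
    toInf U x V hx ≫ X.homOfLE (inf_le_left : U ⊓ V ≤ U) = pullback.snd (X.fromSpecStalk x) U.ι :=
  IsPullback.lift_fst _ _ _ _

@[reassoc (attr := simp)]
theorem toInf_right (V : X.Opens) (hx : x ∈ V) :
    toInf U x V hx ≫ X.homOfLE (inf_le_right : U ⊓ V ≤ V) =
      pullback.fst (X.fromSpecStalk x) U.ι ≫ V.fromSpecStalkOfMem x hx :=
  IsPullback.lift_snd _ _ _ _

theorem stalk_of_nhd (V : X.Opens) (v : (V : Scheme.{u}) ⟶ Y) (hx : x ∈ V)
    (hv : v ≫ pY = V.ι ≫ pX)
    (hvh : X.homOfLE (inf_le_right : U ⊓ V ≤ V) ≫ v = X.homOfLE (inf_le_left : U ⊓ V ≤ U) ≫ h) :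
    ∃ w : Spec (X.presheaf.stalk x) ⟶ Y, w ≫ pY = X.fromSpecStalk x ≫ pX ∧
      pullback.fst (X.fromSpecStalk x) U.ι ≫ w = pullback.snd (X.fromSpecStalk x) U.ι ≫ h := by
  refine ⟨V.fromSpecStalkOfMem x hx ≫ v, ?_, ?_⟩
  · rw [Category.assoc, hv, ← Category.assoc, Scheme.Opens.fromSpecStalkOfMem_ι]
  · rw [← Category.assoc, ← toInf_right U x V hx, Category.assoc, hvh, toInf_left_assoc]

end easy

section limit

variable {X Y S : Scheme.{u}} (pX : X ⟶ S) (pY : Y ⟶ S) (x : X)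

/-- a morphism from the spectrum of the local ring extends to an affine neighbourhood. -/
theorem exists_nhd_hom [LocallyOfFinitePresentation pY] (w : Spec (X.presheaf.stalk x) ⟶ Y)
    (hw : w ≫ pY = X.fromSpecStalk x ≫ pX) :
    ∃ (j : (Nhd X x)ᵒᵖ) (g₀ : (nZ X x).obj j ⟶ Y), (nC X x).π.app j ≫ g₀ = w ∧
      g₀ ≫ pY = (nT X x).app j ≫ pX := by
  obtain ⟨j, g₀, h1, h2⟩ := Scheme.exists_π_app_comp_eq_of_locallyOfFinitePresentation
    (nZ X x) (nT X x ≫ (Functor.const _).map pX) pY (nC X x) (nHc X x) w (by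
      ext j : 2
      change (nC X x).π.app j ≫ (nT X x).app j ≫ pX = w ≫ pY
      exact (Category.assoc _ _ _).symm.trans
        ((congrArg (fun m => m ≫ pX) (nC_htS X x j)).trans hw.symm))
  exact ⟨j, g₀, h1, h2⟩

variable {I : Type u} [Category.{u} I] (Z : I ⥤ Scheme.{u})
  (t : Z ⟶ (Functor.const I).obj X) (c : Cone Z) (tS : c.pt ⟶ X)
  (htS : ∀ j, c.π.app j ≫ t.app j = tS) {A : Scheme.{u}} (fA : A ⟶ X)
  [IsCofiltered I] [∀ {i j} (f : i ⟶ j), IsAffineHom (Z.map f)]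
  (hcpt : ∀ j, CompactSpace ↥(pullback fA (t.app j) : Scheme.{u})) (hc : IsLimit c)

include hc hcpt in
/-- variant of `exists_eq_of_lft` where the target lives over a further base. -/
theorem exists_eq_of_lft' [LocallyOfFiniteType pY] {j : I}
    (a b : pullback fA (t.app j) ⟶ Y)
    (ha : a ≫ pY = pullback.snd fA (t.app j) ≫ t.app j ≫ pX)
    (hb : b ≫ pY = pullback.snd fA (t.app j) ≫ t.app j ≫ pX)
    (hab : bcπ Z t fA c tS htS j ≫ a = bcπ Z t fA c tS htS j ≫ b) :
    ∃ (k : I) (φ : k ⟶ j), bcMap Z t fA φ ≫ a = bcMap Z t fA φ ≫ b := by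
  have : IsConnected I := IsCofiltered.isConnected I
  have : ∀ j, CompactSpace ((bcDiagram Z t fA).obj j) := hcpt
  exact Scheme.exists_hom_comp_eq_comp_of_locallyOfFiniteType
    (bcDiagram Z t fA) (bcT Z t fA ≫ (Functor.const _).map pX) pY (bcCone Z t fA c tS htS)
    (isLimitBcCone Z t fA c tS htS hc) a b
    (by
      change (pullback.snd fA (t.app j) ≫ t.app j) ≫ pX = a ≫ pY
      rw [ha, Category.assoc])
    (by
      change (pullback.snd fA (t.app j) ≫ t.app j) ≫ pX = b ≫ pY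
      rw [hb, Category.assoc]) hab

end limit

end Groth.Agent.H40.Lm
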