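import Groth.Agent.H40.Lm.Pseudo

/-!
# Pseudo-morphisms: the reduced case (dominance) and the Noetherian case (compactness)
-/

set_option autoImplicit false
set_option backward.isDefEq.respectTransparency.types false
universe u

open CategoryTheory CategoryTheory.Limits AlgebraicGeometry Opposite TopologicalSpace

namespace Groth.Agent.H40.Lm

open Groth.Agent.H24.FieldPoint Groth.Agent.H24.OverBC

/-- if only finitely many irreducible components meet a neighbourhood `W` of `x`, then `x` has an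
open neighbourhood all of whose points have a common generization with `x`. -/
theorem exists_open_generizations {X : Type*} [TopologicalSpace X] [QuasiSober X] (x : X)
    (W : Set X) (hW : IsOpen W) (hx : x ∈ W)
    (hfin : {Z : Set X | Z ∈ irreducibleComponents X ∧ (Z ∩ W).Nonempty}.Finite) :
    ∃ V : Set X, IsOpen V ∧ x ∈ V ∧ V ⊆ W ∧ ∀ y ∈ V, ∃ η : X, η ⤳ y ∧ η ⤳ x := by
  let F : Set (Set X) := {Z | Z ∈ irreducibleComponents X ∧ (Z ∩ W).Nonempty ∧ x ∉ Z}
  have hF : F.Finite := hfin.subset (fun Z hZ => ⟨hZ.1, hZ.2.1⟩)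
  have hC : IsClosed (⋃₀ F) := by
    rw [Set.sUnion_eq_biUnion]
    exact hF.isClosed_biUnion (fun Z hZ => isClosed_of_mem_irreducibleComponents Z hZ.1)
  refine ⟨W ∩ (⋃₀ F)ᶜ, hW.inter hC.isOpen_compl, ⟨hx, ?_⟩, Set.inter_subset_left, ?_⟩
  · rintro ⟨Z, hZ, hxZ⟩
    exact hZ.2.2 hxZ
  · rintro y ⟨hyW, hyC⟩
    have hyZ : y ∈ irreducibleComponent y := mem_irreducibleComponent
    have hxZ : x ∈ irreducibleComponent y := by
      by_contra hxZ
      exact hyC ⟨irreducibleComponent y,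
        ⟨irreducibleComponent_mem_irreducibleComponents y, ⟨y, hyZ, hyW⟩, hxZ⟩, hyZ⟩
    have hS : IsIrreducible (irreducibleComponent y) := isIrreducible_irreducibleComponent
    have hη := hS.isGenericPoint_genericPoint isClosed_irreducibleComponent
    refine ⟨hS.genericPoint, ?_, ?_⟩
    · rw [specializes_iff_mem_closure, hη.def]
      exact hyZ
    · rw [specializes_iff_mem_closure, hη.def]
      exact hxZ

variable {X : Scheme.{u}} (U : X.Opens) (x : X)

/-- `Spec 𝒪_{X,x} ×_X U ⟶ U ∩ V` is dominant if every point of `V` has a common generization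
with `x`. -/
theorem isDominant_toInf (V : X.Opens) (hx : x ∈ V)
    (hV : ∀ y ∈ V, ∃ η : X, η ⤳ y ∧ η ⤳ x) : IsDominant (toInf U x V hx) := by
  refine ⟨dense_iff_inter_open.mpr fun O hO hne => ?_⟩
  obtain ⟨y', hy'⟩ := hne
  have hyUV : (U ⊓ V).ι y' ∈ U ⊓ V := y'.2
  obtain ⟨η, hηy, hηx⟩ := hV _ hyUV.2
  have hO' : IsOpen ((U ⊓ V).ι '' O) := (U ⊓ V).ι.isOpenEmbedding.isOpenMap _ hO
  obtain ⟨η', hη'O, hη'⟩ : η ∈ (U ⊓ V).ι '' O := hηy.mem_open hO' ⟨y', hy', rfl⟩
  have hηUV : η ∈ U ⊓ V := by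
    rw [← hη']
    exact η'.2
  obtain ⟨z, hz⟩ : η ∈ Set.range (X.fromSpecStalk x) := by
    rw [Scheme.range_fromSpecStalk]
    exact hηx
  obtain ⟨p, hp1, hp2⟩ := Scheme.Pullback.exists_preimage_pullback (f := X.fromSpecStalk x)
    (g := U.ι) z (⟨η, hηUV.1⟩ : U) (by rw [hz]; rfl)
  refine ⟨η', hη'O, p, ?_⟩
  apply (U ⊓ V).ι.isOpenEmbedding.injective
  rw [hη']
  have e1 : (U ⊓ V).ι (toInf U x V hx p) =
      U.ι (X.homOfLE (inf_le_left : U ⊓ V ≤ U) (toInf U x V hx p)) :=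
    (congrArg (fun m : ((U ⊓ V : X.Opens) : Scheme.{u}) ⟶ X => m (toInf U x V hx p))
      (X.homOfLE_ι (inf_le_left : U ⊓ V ≤ U))).symm
  have e2 : X.homOfLE (inf_le_left : U ⊓ V ≤ U) (toInf U x V hx p) =
      pullback.snd (X.fromSpecStalk x) U.ι p :=
    congrArg (fun m : pullback (X.fromSpecStalk x) U.ι ⟶ (U : Scheme.{u}) => m p)
      (toInf_left U x V hx)
  rw [e1, e2, hp2]
  rfl

end Groth.Agent.H40.Lm
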