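import Groth.Agent.H40.Lm.Pseudo2

/-!
# Pseudo-morphisms: assembly
-/

set_option autoImplicit false
set_option backward.isDefEq.respectTransparency.types false
universe u

open CategoryTheory CategoryTheory.Limits AlgebraicGeometry Opposite TopologicalSpace

namespace Groth.Agent.H40.Lm

open Groth.Agent.H24.FieldPoint Groth.Agent.H24.OverBC

variable {X Y S : Scheme.{u}} (pX : X ⟶ S) (pY : Y ⟶ S) (U : X.Opens) (h : (U : Scheme.{u}) ⟶ Y)
  (hh : h ≫ pY = U.ι ≫ pX) {x : X}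

/-- transition maps of the neighbourhood system. -/
noncomputable abbrev nMap {j k : (Nhd X x)ᵒᵖ} (φ : k ⟶ j) :
    Spec Γ(X, k.unop.opens) ⟶ Spec Γ(X, j.unop.opens) :=
  Spec.map ((nhdRing X x).map φ.unop)

/-- projections from the spectrum of the local ring. -/
noncomputable abbrev nπ (k : (Nhd X x)ᵒᵖ) :
    Spec (X.presheaf.stalk x) ⟶ Spec Γ(X, k.unop.opens) :=
  Spec.map (X.presheaf.germ k.unop.opens x k.unop.mem)

theorem nMap_fromSpec {j k : (Nhd X x)ᵒᵖ} (φ : k ⟶ j) :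
    nMap φ ≫ j.unop.isAffineOpen.fromSpec = k.unop.isAffineOpen.fromSpec :=
  nZ_map_fromSpec X x φ

theorem nπ_nMap {j k : (Nhd X x)ᵒᵖ} (φ : k ⟶ j) : nπ k ≫ nMap φ = nπ j := (nC X x).w φ

theorem nπ_fromSpec (k : (Nhd X x)ᵒᵖ) :
    nπ k ≫ k.unop.isAffineOpen.fromSpec = X.fromSpecStalk x := nC_htS X x k

/-- the morphism on `V_k` induced by `g₀` on `V_j`. -/
noncomputable def vK {j k : (Nhd X x)ᵒᵖ} (φ : k ⟶ j) (g₀ : Spec Γ(X, j.unop.opens) ⟶ Y) :
    (k.unop.opens : Scheme.{u}) ⟶ Y :=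
  k.unop.isAffineOpen.isoSpec.hom ≫ nMap φ ≫ g₀

theorem vK_over {j k : (Nhd X x)ᵒᵖ} (φ : k ⟶ j) (g₀ : Spec Γ(X, j.unop.opens) ⟶ Y)
    (hg₀ : g₀ ≫ pY = j.unop.isAffineOpen.fromSpec ≫ pX) :
    vK φ g₀ ≫ pY = k.unop.opens.ι ≫ pX := by
  have h1 := nMap_fromSpec φ
  unfold vK
  simp only [Category.assoc]
  rw [hg₀, reassoc_of% h1, IsAffineOpen.isoSpec_hom_fromSpec_assoc]

theorem fromSpecStalkOfMem_vK {j k : (Nhd X x)ᵒᵖ} (φ : k ⟶ j)
    (g₀ : Spec Γ(X, j.unop.opens) ⟶ Y) :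
    k.unop.opens.fromSpecStalkOfMem x k.unop.mem ≫ vK φ g₀ = nπ j ≫ g₀ := by
  have h1 : k.unop.opens.fromSpecStalkOfMem x k.unop.mem ≫ k.unop.isAffineOpen.isoSpec.hom =
      nπ k := Scheme.Opens.fromSpecStalkOfMem_toSpecΓ k.unop.opens x k.unop.mem
  have h2 := nπ_nMap φ
  unfold vK
  rw [reassoc_of% h1, reassoc_of% h2]

include hh in
/-- the reduced case: the two morphisms agree on `U ∩ V_k` as soon as
`Spec 𝒪_{X,x} ×_X U ⟶ U ∩ V_k` is dominant. -/
theorem eq_of_dominant [IsSeparated pY] [IsReduced X] {j k : (Nhd X x)ᵒᵖ} (φ : k ⟶ j)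
    (g₀ : Spec Γ(X, j.unop.opens) ⟶ Y) (hg₀ : g₀ ≫ pY = j.unop.isAffineOpen.fromSpec ≫ pX)
    (hw2 : pullback.fst (X.fromSpecStalk x) U.ι ≫ nπ j ≫ g₀ =
      pullback.snd (X.fromSpecStalk x) U.ι ≫ h)
    (hdom : IsDominant (toInf U x k.unop.opens k.unop.mem)) :
    X.homOfLE (inf_le_right : U ⊓ k.unop.opens ≤ k.unop.opens) ≫ vK φ g₀ =
      X.homOfLE (inf_le_left : U ⊓ k.unop.opens ≤ U) ≫ h := by
  refine ext_of_isDominant_of_isSeparated pY ?_ (toInf U x k.unop.opens k.unop.mem) ?_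
  · rw [Category.assoc, Category.assoc, vK_over pX pY φ g₀ hg₀, hh, X.homOfLE_ι_assoc,
      X.homOfLE_ι_assoc]
  · rw [toInf_right_assoc, toInf_left_assoc, fromSpecStalkOfMem_vK, hw2]

include hh in
/-- the Noetherian case. -/
theorem exists_eq_noeth [IsLocallyNoetherian X] [LocallyOfFiniteType pY] {j : (Nhd X x)ᵒᵖ}
    (g₀ : Spec Γ(X, j.unop.opens) ⟶ Y) (hg₀ : g₀ ≫ pY = j.unop.isAffineOpen.fromSpec ≫ pX)
    (hw2 : pullback.fst (X.fromSpecStalk x) U.ι ≫ nπ j ≫ g₀ =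
      pullback.snd (X.fromSpecStalk x) U.ι ≫ h) :
    ∃ (k : (Nhd X x)ᵒᵖ) (φ : k ⟶ j),
      X.homOfLE (inf_le_right : U ⊓ k.unop.opens ≤ k.unop.opens) ≫ vK φ g₀ =
        X.homOfLE (inf_le_left : U ⊓ k.unop.opens ≤ U) ≫ h := by
  have hcpt : ∀ k, CompactSpace ↥(pullback U.ι ((nT X x).app k) : Scheme.{u}) := fun k => by
    have : IsNoetherianRing Γ(X, k.unop.opens) :=
      IsLocallyNoetherian.component_noetherian ⟨k.unop.opens, k.unop.isAffineOpen⟩
    have : NoetherianSpace ↥(Spec Γ(X, k.unop.opens)) := inferInstance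
    have : NoetherianSpace ↥(pullback U.ι k.unop.isAffineOpen.fromSpec : Scheme.{u}) :=
      (pullback.snd U.ι k.unop.isAffineOpen.fromSpec).isOpenEmbedding.isInducing.noetherianSpace
    exact (inferInstance : CompactSpace ↥(pullback U.ι k.unop.isAffineOpen.fromSpec : Scheme.{u}))
  have e1 : (pullbackSymmetry U.ι (X.fromSpecStalk x)).hom ≫
      pullback.fst (X.fromSpecStalk x) U.ι = pullback.snd U.ι (X.fromSpecStalk x) :=
    pullbackSymmetry_hom_comp_fst _ _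
  have e2 : (pullbackSymmetry U.ι (X.fromSpecStalk x)).hom ≫
      pullback.snd (X.fromSpecStalk x) U.ι = pullback.fst U.ι (X.fromSpecStalk x) :=
    pullbackSymmetry_hom_comp_snd _ _
  have hab0 : baseMap U.ι (X.fromSpecStalk x) j.unop.isAffineOpen.fromSpec (nπ j)
      (nπ_fromSpec j) ≫ pullback.snd U.ι j.unop.isAffineOpen.fromSpec ≫ g₀ =
      baseMap U.ι (X.fromSpecStalk x) j.unop.isAffineOpen.fromSpec (nπ j) (nπ_fromSpec j) ≫
      pullback.fst U.ι j.unop.isAffineOpen.fromSpec ≫ h := by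
    rw [baseMap_snd_assoc, baseMap_fst_assoc, ← e1, ← e2, Category.assoc, Category.assoc, hw2]
  obtain ⟨k, φ, hk⟩ := exists_eq_of_lft' pX pY (nZ X x) (nT X x) (nC X x) (X.fromSpecStalk x)
    (nC_htS X x) U.ι hcpt (nHc X x) (pullback.snd U.ι j.unop.isAffineOpen.fromSpec ≫ g₀)
    (pullback.fst U.ι j.unop.isAffineOpen.fromSpec ≫ h)
    (by
      change (pullback.snd U.ι j.unop.isAffineOpen.fromSpec ≫ g₀) ≫ pY =
        pullback.snd U.ι j.unop.isAffineOpen.fromSpec ≫ j.unop.isAffineOpen.fromSpec ≫ pX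
      rw [Category.assoc, hg₀])
    (by
      change (pullback.fst U.ι j.unop.isAffineOpen.fromSpec ≫ h) ≫ pY =
        pullback.snd U.ι j.unop.isAffineOpen.fromSpec ≫ j.unop.isAffineOpen.fromSpec ≫ pX
      rw [Category.assoc, hh, pullback.condition_assoc]) hab0
  refine ⟨k, φ, ?_⟩
  have hk' : baseMap U.ι k.unop.isAffineOpen.fromSpec j.unop.isAffineOpen.fromSpec (nMap φ)
      (nMap_fromSpec φ) ≫ pullback.snd U.ι j.unop.isAffineOpen.fromSpec ≫ g₀ =
      baseMap U.ι k.unop.isAffineOpen.fromSpec j.unop.isAffineOpen.fromSpec (nMap φ)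
      (nMap_fromSpec φ) ≫ pullback.fst U.ι j.unop.isAffineOpen.fromSpec ≫ h := hk
  rw [baseMap_snd_assoc, baseMap_fst_assoc] at hk'
  have hl : X.homOfLE (inf_le_left : U ⊓ k.unop.opens ≤ U) ≫ U.ι =
      (X.homOfLE (inf_le_right : U ⊓ k.unop.opens ≤ k.unop.opens) ≫
        k.unop.isAffineOpen.isoSpec.hom) ≫ k.unop.isAffineOpen.fromSpec := by
    rw [Category.assoc, IsAffineOpen.isoSpec_hom_fromSpec, X.homOfLE_ι, X.homOfLE_ι]
  have key := congrArg (fun m => pullback.lift _ _ hl ≫ m) hk'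
  simp only [pullback.lift_fst_assoc, pullback.lift_snd_assoc, Category.assoc] at key
  unfold vK
  exact key

end Groth.Agent.H40.Lm
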