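import Groth.Agent.H40.Bi.Main
import Groth.Agent.H40.DF.Comp
import Groth.Agent.H40.DF.BaseChange
import Groth.Agent.H24.OverBC

/-!
# Effectivity of a base-changed descent datum is preserved by further base change
-/

set_option autoImplicit false
set_option backward.isDefEq.respectTransparency.types false
universe w u

open CategoryTheory CategoryTheory.Limits AlgebraicGeometry

namespace Groth.Agent.H40.Lm

open Desc Groth.Agent.H40.Bi Groth.Agent.H24.OverBC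

theorem pullDDFam_congr {S S' : Scheme.{u}} {ι ι' : Type w} {X : ι → Scheme.{u}}
    {X' : ι' → Scheme.{u}} {f : ∀ i, X i ⟶ S} {f' : ∀ j, X' j ⟶ S'} {α : ι' → ι} {p : S' ⟶ S}
    {p' p'' : ∀ j, X' j ⟶ X (α j)} (e : p' = p'')
    (w' : ∀ j, p' j ≫ f (α j) = f' j ≫ p) (w'' : ∀ j, p'' j ≫ f (α j) = f' j ≫ p)
    (D : Desc.SchDDFam f) :
    (pullDDFam w').obj D = (pullDDFam w'').obj D := by
  subst e
  rfl

variable {S' S : Scheme.{u}} {g : S' ⟶ S} (Dm : SchDDFam (fun _ : PUnit.{w + 1} => g))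

/-- effectivity over `p₁` implies effectivity over `j ≫ p₁`. -/
theorem effective_precomp {Z₁ Z₂ : Scheme.{u}} (p₁ : Z₁ ⟶ S) (j : Z₂ ⟶ Z₁) (p₂ : Z₂ ⟶ S)
    (h : j ≫ p₁ = p₂)
    (H : ∃ U : Over Z₁, Etale U.hom ∧
      Nonempty ((toDDFam (fun _ : PUnit.{w + 1} => pullback.snd g p₁)).obj U ≅
        bcFam (p := p₁) Dm)) :
    ∃ U : Over Z₂, Etale U.hom ∧
      Nonempty ((toDDFam (fun _ : PUnit.{w + 1} => pullback.snd g p₂)).obj U ≅
        bcFam (p := p₂) Dm) := by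
  subst h
  obtain ⟨U₁, hU₁, ⟨e₁⟩⟩ := H
  refine ⟨Over.mk (pullback.snd U₁.hom j), ?_, ⟨?_⟩⟩
  · change Etale (pullback.snd U₁.hom j)
    infer_instance
  · have w₂ : ∀ _ : PUnit.{w + 1}, baseMap g (j ≫ p₁) p₁ j rfl ≫ pullback.snd g p₁ =
        pullback.snd g (j ≫ p₁) ≫ j := fun _ => baseMap_snd g (j ≫ p₁) p₁ j rfl
    have w₁ : ∀ _ : PUnit.{w + 1}, pullback.fst g p₁ ≫ g = pullback.snd g p₁ ≫ p₁ :=
      fun _ => pullback.condition
    let i1 := DF.bcIso (f := fun _ : PUnit.{w + 1} => pullback.snd g p₁)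
      (f' := fun _ : PUnit.{w + 1} => pullback.snd g (j ≫ p₁)) (α := id) (p := j)
      (p' := fun _ => baseMap g (j ≫ p₁) p₁ j rfl) w₂ U₁
    let i2 := (pullDDFam (f := fun _ : PUnit.{w + 1} => pullback.snd g p₁)
      (f' := fun _ : PUnit.{w + 1} => pullback.snd g (j ≫ p₁)) (α := id) (p := j)
      (p' := fun _ => baseMap g (j ≫ p₁) p₁ j rfl) w₂).mapIso e₁
    let i3 := (DF.pullCompIso (f := fun _ : PUnit.{w + 1} => g)
      (f' := fun _ : PUnit.{w + 1} => pullback.snd g p₁)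
      (f'' := fun _ : PUnit.{w + 1} => pullback.snd g (j ≫ p₁)) (α₁ := id) (p₁ := p₁)
      (p'₁ := fun _ => pullback.fst g p₁) w₁ (α₂ := id) (p₂ := j)
      (p'₂ := fun _ => baseMap g (j ≫ p₁) p₁ j rfl) w₂).app Dm
    have e4 := pullDDFam_congr (f := fun _ : PUnit.{w + 1} => g)
      (f' := fun _ : PUnit.{w + 1} => pullback.snd g (j ≫ p₁)) (α := id) (p := j ≫ p₁)
      (p' := fun _ => baseMap g (j ≫ p₁) p₁ j rfl ≫ pullback.fst g p₁)
      (p'' := fun _ => pullback.fst g (j ≫ p₁))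
      (funext fun _ => baseMap_fst g (j ≫ p₁) p₁ j rfl)
      (fun _ => by
        rw [Category.assoc, pullback.condition, ← Category.assoc, baseMap_snd, Category.assoc])
      (fun _ => pullback.condition) Dm
    exact i1 ≪≫ i2 ≪≫ i3 ≪≫ eqToIso e4

end Groth.Agent.H40.Lm
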