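import Groth.Agent.H40.Lm.Descend
import Groth.Agent.H40.Lm.Transfer

/-!
# Effectivity over a limit of open subschemes implies effectivity over a finite stage
-/

set_option autoImplicit false
set_option backward.isDefEq.respectTransparency.types false
universe w u

open CategoryTheory CategoryTheory.Limits AlgebraicGeometry

namespace Groth.Agent.H40.Lm

open Desc Groth.Agent.H40.DQ Groth.Agent.H40.DGE Groth.Agent.H40.Bi Groth.Agent.H24.OverBC

section compact

theorem compactSpace_pullback {A S Z : Scheme.{u}} (f : A ⟶ S) [QuasiCompact f] (p : Z ⟶ S)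
    [CompactSpace Z] : CompactSpace ↥(pullback f p : Scheme.{u}) :=
  QuasiCompact.compactSpace_of_compactSpace (pullback.snd f p)

theorem quasiSeparatedSpace_pullback {A S Z : Scheme.{u}} (f : A ⟶ S) [QuasiSeparated f]
    (p : Z ⟶ S) [QuasiSeparatedSpace Z] : QuasiSeparatedSpace ↥(pullback f p : Scheme.{u}) :=
  quasiSeparatedSpace_of_quasiSeparated (pullback.snd f p)

variable {S' S : Scheme.{u}} (g : S' ⟶ S) {U₀ Z₁ Z₂ : Scheme.{u}} (u : U₀ ⟶ Z₁) (m : Z₁ ⟶ S)
  (ψ : Z₂ ⟶ Z₁)

/-- `(S' ×_S U₀) ×_S Z₂ ⟶ S' ×_S Z₂`. -/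
noncomputable def aY : pullback (fY (g := g) (u ≫ m)) (ψ ≫ m) ⟶ pullback g (ψ ≫ m) :=
  pullback.lift (pullback.fst _ _ ≫ pullback.fst g (u ≫ m)) (pullback.snd _ _) (by
    rw [Category.assoc]
    exact pullback.condition)

@[reassoc (attr := simp)]
theorem aY_fst : aY g u m ψ ≫ pullback.fst g (ψ ≫ m) =
    pullback.fst _ _ ≫ pullback.fst g (u ≫ m) := pullback.lift_fst _ _ _

@[reassoc (attr := simp)]
theorem aY_snd : aY g u m ψ ≫ pullback.snd g (ψ ≫ m) = pullback.snd _ _ :=
  pullback.lift_snd _ _ _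

variable [Mono m]

theorem isPullback_aY :
    IsPullback (pullback.fst (fY (g := g) (u ≫ m)) (ψ ≫ m) ≫ pullback.snd g (u ≫ m))
      (aY g u m ψ) u (pullback.snd g (ψ ≫ m) ≫ ψ) := by
  have hw : (pullback.fst (fY (g := g) (u ≫ m)) (ψ ≫ m) ≫ pullback.snd g (u ≫ m)) ≫ u =
      aY g u m ψ ≫ pullback.snd g (ψ ≫ m) ≫ ψ := by
    rw [← cancel_mono m]
    simp only [Category.assoc]
    rw [aY_snd_assoc, ← pullback.condition (f := g) (g := u ≫ m)]
    exact pullback.condition
  refine IsPullback.of_isLimit' ⟨hw⟩ (PullbackCone.IsLimit.mk _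
    (fun s => pullback.lift (pullback.lift (s.snd ≫ pullback.fst g (ψ ≫ m)) s.fst (by
        have hs := s.condition
        rw [Category.assoc, pullback.condition, ← Category.assoc s.fst u m, hs]
        simp only [Category.assoc]))
      (s.snd ≫ pullback.snd g (ψ ≫ m)) (by
        rw [pullback.lift_fst_assoc, Category.assoc, pullback.condition, Category.assoc]))
    ?_ ?_ ?_)
  · intro s
    rw [pullback.lift_fst_assoc, pullback.lift_snd]
  · intro s
    apply pullback.hom_ext
    · rw [Category.assoc, aY_fst, pullback.lift_fst_assoc, pullback.lift_fst]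
    · rw [Category.assoc, aY_snd, pullback.lift_snd]
  · intro s l h1 h2
    apply hom_ext_Y
    · rw [pullback.lift_fst_assoc, pullback.lift_fst, ← h2, Category.assoc, aY_fst]
    · rw [pullback.lift_fst_assoc, pullback.lift_snd, ← h1]
    · rw [pullback.lift_snd, ← h2, Category.assoc, aY_snd]

theorem compactSpace_fY [QuasiCompact g] [QuasiCompact u] [CompactSpace Z₂] (p₂ : Z₂ ⟶ S)
    (hp : ψ ≫ m = p₂) : CompactSpace ↥(pullback (fY (g := g) (u ≫ m)) p₂ : Scheme.{u}) := by
  subst hp
  have : QuasiCompact (aY g u m ψ) :=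
    MorphismProperty.of_isPullback (P := @QuasiCompact) (isPullback_aY g u m ψ) inferInstance
  exact QuasiCompact.compactSpace_of_compactSpace (aY g u m ψ ≫ pullback.snd g (ψ ≫ m))

theorem quasiSeparatedSpace_fY [QuasiSeparated g] [QuasiSeparated u] [QuasiSeparatedSpace Z₂]
    (p₂ : Z₂ ⟶ S) (hp : ψ ≫ m = p₂) :
    QuasiSeparatedSpace ↥(pullback (fY (g := g) (u ≫ m)) p₂ : Scheme.{u}) := by
  subst hp
  have : QuasiSeparated (aY g u m ψ) :=
    MorphismProperty.of_isPullback (P := @QuasiSeparated) (isPullback_aY g u m ψ) inferInstance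
  exact quasiSeparatedSpace_of_quasiSeparated (aY g u m ψ ≫ pullback.snd g (ψ ≫ m))

end compact

section main

variable {I : Type u} [SmallCategory I] (Z : I ⥤ Scheme.{u}) {S : Scheme.{u}}
  (t : Z ⟶ (Functor.const I).obj S) (c : Cone Z) (tS : c.pt ⟶ S)
  (htS : ∀ j, c.π.app j ≫ t.app j = tS)

/-- the structure morphisms of the system restricted to the stages below `j`. -/
def tRes (j : I) : Over.forget j ⋙ Z ⟶ (Functor.const (Over j)).obj S where
  app x := t.app x.left
  naturality x y f := by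
    change Z.map f.left ≫ t.app y.left = t.app x.left ≫ 𝟙 S
    rw [map_t]
    exact (Category.comp_id _).symm

variable [IsCofiltered I] (hc : IsLimit c)
  [∀ {i j : I} (f : i ⟶ j), IsAffineHom (Z.map f)]
  [∀ i, CompactSpace (Z.obj i)] [∀ i, QuasiSeparatedSpace (Z.obj i)]
  [∀ i, IsOpenImmersion (t.app i)]
  {S' : Scheme.{u}} (g : S' ⟶ S) [Surjective g] [LocallyOfFinitePresentation g] [QuasiCompact g]
  [QuasiSeparated g] (Dm : SchDDFam (fun _ : PUnit.{w + 1} => g))
  [Etale ((SchDDFam.toSchDD g).obj Dm).obj.hom] [QuasiCompact ((SchDDFam.toSchDD g).obj Dm).obj.hom]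
  [QuasiSeparated ((SchDDFam.toSchDD g).obj Dm).obj.hom]

include hc htS in
/-- if the descent datum becomes effective over the limit, it is effective over a stage. -/
theorem exists_stage_effective (U : Over c.pt) [Etale U.hom]
    (e : (toDDFam (fun _ : PUnit.{w + 1} => pullback.snd g tS)).obj U ≅ bcFam (p := tS) Dm) :
    ∃ (j : I) (Uj : Over (Z.obj j)), Etale Uj.hom ∧
      Nonempty ((toDDFam (fun _ : PUnit.{w + 1} => pullback.snd g (t.app j))).obj Uj ≅
        bcFam (p := t.app j) Dm) := by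
  obtain ⟨m₁, hq⟩ := exists_biQuot_of_iso Dm U e
  have : QuasiCompact U.hom := quasiCompact_of_isPullback_surj hq.isPullback
  have : QuasiSeparated U.hom := quasiSeparated_of_isPullback_surj hq.isPullback
  obtain ⟨j, Uj, uj, k, hj1, hj2, hj3, sq⟩ := exists_etale_stage Z c hc U.hom
  have : IsIso (𝟙 c.pt) := IsIso.id c.pt
  have sqU : IsPullback k U.hom (uj ≫ t.app j) tS := by
    have h2 : IsPullback (c.π.app j) (𝟙 c.pt) (t.app j) tS :=
      IsPullback.of_vert_isIso_mono ⟨(htS j).trans (Category.id_comp tS).symm⟩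
    have := sq.paste_vert h2
    rwa [Category.comp_id] at this
  have hY := yQuot_of_biQuot sqU hq
  obtain ⟨P, -, h0, h1, h2, h3⟩ := exists_yData_of_yQuot hY
  haveI : ∀ {x y : Over j} (f : x ⟶ y), IsAffineHom ((Over.forget j ⋙ Z).map f) :=
    fun f => inferInstanceAs (IsAffineHom (Z.map f.left))
  obtain ⟨x, Q, a0, a1, a2, a3⟩ := exists_stage (Over.forget j ⋙ Z) (tRes Z t j)
    (c.whisker (Over.forget j)) tS (fun x => htS x.left)
    ((Functor.Initial.isLimitWhiskerEquiv (Over.forget j) c).symm hc)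
    (fun x => compactSpace_pullback _ (t.app x.left))
    (fun x => quasiSeparatedSpace_pullback _ (t.app x.left))
    (fun x => compactSpace_pullback _ (t.app x.left))
    (fun x => compactSpace_fY g uj (t.app j) (Z.map x.hom) (t.app x.left) (map_t Z t x.hom))
    (fun x => quasiSeparatedSpace_fY g uj (t.app j) (Z.map x.hom) (t.app x.left)
      (map_t Z t x.hom))
    P h0 h1 h2 h3
  haveI : Etale (uj ≫ t.app j) := inferInstance
  exact ⟨x.left, exists_effective_of_yQuot (t.app x.left) Dm (uj ≫ t.app j) (Q.yQuot a0 a1 a2 a3)⟩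

end main

end Groth.Agent.H40.Lm
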