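import Groth.Agent.H40.Lm.YQuot
import Groth.Agent.H40.Lm.HomColim

/-!
# Quotient data with an explicit inverse, and their restriction along a morphism of bases
-/

set_option autoImplicit false
set_option backward.isDefEq.respectTransparency.types false
universe u

open CategoryTheory CategoryTheory.Limits AlgebraicGeometry

namespace Groth.Agent.H40.Lm

open Desc Groth.Agent.H40.DQ Groth.Agent.H40.DGE Groth.Agent.H40.Bi Groth.Agent.H24.OverBC

variable {S' S : Scheme.{u}} {g : S' ⟶ S} (D : Desc.SchDD g) {U₀ : Scheme.{u}} (r₀ : U₀ ⟶ S)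

section nat

variable {Z₁ Z₂ : Scheme.{u}} (p₁ : Z₁ ⟶ S) (p₂ : Z₂ ⟶ S) (r : Z₂ ⟶ Z₁) (h : r ≫ p₁ = p₂)

theorem baseMap_tm :
    baseMap (fR D) p₂ p₁ r h ≫ tm D p₁ = tm D p₂ ≫ baseMap (fV D) p₂ p₁ r h := by
  apply pullback.hom_ext
  · rw [Category.assoc, tm_fst, baseMap_fst_assoc, Category.assoc, baseMap_fst, tm_fst]
  · rw [Category.assoc, tm_snd, baseMap_snd, Category.assoc, baseMap_snd, tm_snd_assoc]

theorem baseMap_fs :
    baseMap (fR D) p₂ p₁ r h ≫ fs D p₁ = fs D p₂ ≫ baseMap (fV D) p₂ p₁ r h := by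
  apply pullback.hom_ext
  · rw [Category.assoc, fs_fst, baseMap_fst_assoc, Category.assoc, baseMap_fst, fs_fst]
  · rw [Category.assoc, fs_snd, baseMap_snd, Category.assoc, baseMap_snd, fs_snd_assoc]

theorem res_w {n' : pullback (fV D) p₁ ⟶ U₀} (hn' : n' ≫ r₀ = pullback.snd (fV D) p₁ ≫ p₁) :
    (baseMap (fV D) p₂ p₁ r h ≫ n') ≫ r₀ = pullback.snd (fV D) p₂ ≫ p₂ := by
  rw [Category.assoc, hn', baseMap_snd_assoc, h]

theorem baseMap_γ {n' : pullback (fV D) p₁ ⟶ U₀}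
    (hn' : n' ≫ r₀ = pullback.snd (fV D) p₁ ≫ p₁) :
    baseMap (fV D) p₂ p₁ r h ≫ γ D r₀ p₁ n' hn' =
      γ D r₀ p₂ (baseMap (fV D) p₂ p₁ r h ≫ n') (res_w D r₀ p₁ p₂ r h hn') ≫
        baseMap (fY (g := g) r₀) p₂ p₁ r h := by
  apply hom_ext_Y
  · rw [Category.assoc, γ_fst_fst, baseMap_fst_assoc, Category.assoc, baseMap_fst_assoc,
      γ_fst_fst]
  · rw [Category.assoc, γ_fst_snd, Category.assoc, baseMap_fst_assoc, γ_fst_snd]
  · rw [Category.assoc, γ_snd, baseMap_snd, Category.assoc, baseMap_snd, γ_snd_assoc]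

end nat

variable {Z : Scheme.{u}} (p : Z ⟶ S)

/-- quotient data together with a candidate inverse. -/
structure YData where
  n' : pullback (fV D) p ⟶ U₀
  ψ' : pullback (fY (g := g) r₀) p ⟶ D.obj.left
  hn : n' ≫ r₀ = pullback.snd (fV D) p ≫ p
  hψ : ψ' ≫ fV D = pullback.snd (fY (g := g) r₀) p ≫ p

namespace YData

variable {D r₀ p} (P : YData D r₀ p)

/-- the candidate inverse of `γ`. -/
noncomputable def ζ : pullback (fY (g := g) r₀) p ⟶ pullback (fV D) p :=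
  pullback.lift P.ψ' (pullback.snd (fY (g := g) r₀) p) P.hψ

@[reassoc (attr := simp)]
theorem ζ_fst : P.ζ ≫ pullback.fst (fV D) p = P.ψ' := pullback.lift_fst _ _ _

@[reassoc (attr := simp)]
theorem ζ_snd : P.ζ ≫ pullback.snd (fV D) p = pullback.snd (fY (g := g) r₀) p :=
  pullback.lift_snd _ _ _

/-- invariance. -/
def Inv : Prop := tm D p ≫ P.n' = fs D p ≫ P.n'

def E1 : Prop := γ D r₀ p P.n' P.hn ≫ P.ψ' = pullback.fst (fV D) p

def E2a : Prop := P.ψ' ≫ D.obj.hom = pullback.fst (fY (g := g) r₀) p ≫ pullback.fst g r₀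

def E2b : Prop := P.ζ ≫ P.n' = pullback.fst (fY (g := g) r₀) p ≫ pullback.snd g r₀

theorem yQuot (h0 : P.Inv) (h1 : P.E1) (h2 : P.E2a) (h3 : P.E2b) : YQuot D r₀ p P.n' := by
  refine ⟨P.hn, h0, ⟨P.ζ, ?_, ?_⟩⟩
  · apply pullback.hom_ext
    · rw [Category.assoc, ζ_fst, Category.id_comp]
      exact h1
    · rw [Category.assoc, ζ_snd, γ_snd, Category.id_comp]
  · apply hom_ext_Y
    · rw [Category.assoc, γ_fst_fst, ζ_fst_assoc, Category.id_comp]
      exact h2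
    · rw [Category.assoc, γ_fst_snd, Category.id_comp]
      exact h3
    · rw [Category.assoc, γ_snd, ζ_snd, Category.id_comp]

/-- restriction of the data along a morphism of bases. -/
noncomputable def res {Z₂ : Scheme.{u}} {p₂ : Z₂ ⟶ S} (r : Z₂ ⟶ Z) (h : r ≫ p = p₂) :
    YData D r₀ p₂ where
  n' := baseMap (fV D) p₂ p r h ≫ P.n'
  ψ' := baseMap (fY (g := g) r₀) p₂ p r h ≫ P.ψ'
  hn := res_w D r₀ p p₂ r h P.hn
  hψ := by rw [Category.assoc, P.hψ, baseMap_snd_assoc, h]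

section res

variable {Z₂ : Scheme.{u}} {p₂ : Z₂ ⟶ S} (r : Z₂ ⟶ Z) (h : r ≫ p = p₂)

@[simp] theorem res_n' : (P.res r h).n' = baseMap (fV D) p₂ p r h ≫ P.n' := rfl

@[simp] theorem res_ψ' : (P.res r h).ψ' = baseMap (fY (g := g) r₀) p₂ p r h ≫ P.ψ' := rfl

theorem baseMap_ζ :
    baseMap (fY (g := g) r₀) p₂ p r h ≫ P.ζ = (P.res r h).ζ ≫ baseMap (fV D) p₂ p r h := by
  apply pullback.hom_ext
  · rw [Category.assoc, ζ_fst, Category.assoc, baseMap_fst, ζ_fst, res_ψ']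
  · rw [Category.assoc, ζ_snd, baseMap_snd, Category.assoc, baseMap_snd, ζ_snd_assoc]

theorem Inv.res (h0 : P.Inv) : (P.res r h).Inv := by
  change tm D p₂ ≫ baseMap (fV D) p₂ p r h ≫ P.n' = fs D p₂ ≫ baseMap (fV D) p₂ p r h ≫ P.n'
  rw [← Category.assoc, ← baseMap_tm D p p₂ r h, Category.assoc, h0, ← Category.assoc,
    baseMap_fs D p p₂ r h, Category.assoc]

theorem E1.res (h1 : P.E1) : (P.res r h).E1 := by
  change γ D r₀ p₂ (baseMap (fV D) p₂ p r h ≫ P.n') _ ≫ baseMap (fY (g := g) r₀) p₂ p r h ≫ P.ψ' =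
    pullback.fst (fV D) p₂
  rw [← Category.assoc, ← baseMap_γ D r₀ p p₂ r h P.hn, Category.assoc, h1, baseMap_fst]

theorem E2a.res (h2 : P.E2a) : (P.res r h).E2a := by
  change (baseMap (fY (g := g) r₀) p₂ p r h ≫ P.ψ') ≫ D.obj.hom = _
  rw [Category.assoc, h2, baseMap_fst_assoc]

theorem E2b.res (h3 : P.E2b) : (P.res r h).E2b := by
  change (P.res r h).ζ ≫ baseMap (fV D) p₂ p r h ≫ P.n' = _
  rw [← Category.assoc, ← baseMap_ζ P r h, Category.assoc, h3, baseMap_fst_assoc]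

end res

end YData

variable {D r₀ p} in
/-- `Y`-model quotient data give data with an inverse. -/
theorem exists_yData_of_yQuot {n' : pullback (fV D) p ⟶ U₀} (hq : YQuot D r₀ p n') :
    ∃ P : YData D r₀ p, P.n' = n' ∧ P.Inv ∧ P.E1 ∧ P.E2a ∧ P.E2b := by
  haveI := hq.iso
  have hψ : (inv (γ D r₀ p n' hq.w) ≫ pullback.fst (fV D) p) ≫ fV D =
      pullback.snd (fY (g := g) r₀) p ≫ p := by
    rw [Category.assoc, pullback.condition, IsIso.inv_comp_eq, γ_snd_assoc]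
  have hζ : pullback.lift (inv (γ D r₀ p n' hq.w) ≫ pullback.fst (fV D) p)
      (pullback.snd (fY (g := g) r₀) p) hψ = inv (γ D r₀ p n' hq.w) := by
    apply pullback.hom_ext
    · rw [pullback.lift_fst]
    · rw [pullback.lift_snd, IsIso.eq_inv_comp, γ_snd]
  refine ⟨⟨n', inv (γ D r₀ p n' hq.w) ≫ pullback.fst (fV D) p, hq.w, hψ⟩, rfl, hq.inv, ?_, ?_, ?_⟩
  · change γ D r₀ p n' hq.w ≫ inv (γ D r₀ p n' hq.w) ≫ pullback.fst (fV D) p = _
    rw [IsIso.hom_inv_id_assoc]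
  · change (inv (γ D r₀ p n' hq.w) ≫ pullback.fst (fV D) p) ≫ D.obj.hom = _
    rw [Category.assoc, IsIso.inv_comp_eq, γ_fst_fst]
  · change pullback.lift _ _ hψ ≫ n' = _
    rw [hζ, IsIso.inv_comp_eq, γ_fst_snd]

end Groth.Agent.H40.Lm
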