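import Groth.Agent.H40.Lm.Model

/-!
# Quotients of the base-changed descent datum, relative to a fixed étale `S`-scheme `U₀`
-/

set_option autoImplicit false
set_option backward.isDefEq.respectTransparency.types false
universe w u

open CategoryTheory CategoryTheory.Limits AlgebraicGeometry

namespace Groth.Agent.H40.Lm

open Desc Groth.Agent.H40.DQ Groth.Agent.H40.DGE Groth.Agent.H40.Bi

variable {S' S : Scheme.{u}} {g : S' ⟶ S} (D : Desc.SchDD g) {U₀ : Scheme.{u}} (r₀ : U₀ ⟶ S)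

/-- `Y₀ = S' ×_S U₀ ⟶ S`. -/
noncomputable abbrev fY : pullback g r₀ ⟶ S := pullback.fst g r₀ ≫ g

variable {Z : Scheme.{u}} (p : Z ⟶ S)

/-- `(v, y) ↦ ((x(v), n'(v, y)), y)`. -/
noncomputable def γ (n' : pullback (fV D) p ⟶ U₀) (hn' : n' ≫ r₀ = pullback.snd (fV D) p ≫ p) :
    pullback (fV D) p ⟶ pullback (fY (g := g) r₀) p :=
  pullback.lift (pullback.lift (pullback.fst (fV D) p ≫ D.obj.hom) n' (by
      rw [Category.assoc, hn']
      exact pullback.condition))
    (pullback.snd (fV D) p) (by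
      rw [pullback.lift_fst_assoc, Category.assoc]
      exact pullback.condition)

variable {D r₀ p}

@[reassoc (attr := simp)]
theorem γ_fst_fst (n' : pullback (fV D) p ⟶ U₀) (hn' : n' ≫ r₀ = pullback.snd (fV D) p ≫ p) :
    γ D r₀ p n' hn' ≫ pullback.fst (fY (g := g) r₀) p ≫ pullback.fst g r₀ =
      pullback.fst (fV D) p ≫ D.obj.hom := by
  unfold γ
  rw [pullback.lift_fst_assoc, pullback.lift_fst]

@[reassoc (attr := simp)]
theorem γ_fst_snd (n' : pullback (fV D) p ⟶ U₀) (hn' : n' ≫ r₀ = pullback.snd (fV D) p ≫ p) :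
    γ D r₀ p n' hn' ≫ pullback.fst (fY (g := g) r₀) p ≫ pullback.snd g r₀ = n' := by
  unfold γ
  rw [pullback.lift_fst_assoc, pullback.lift_snd]

@[reassoc (attr := simp)]
theorem γ_snd (n' : pullback (fV D) p ⟶ U₀) (hn' : n' ≫ r₀ = pullback.snd (fV D) p ≫ p) :
    γ D r₀ p n' hn' ≫ pullback.snd (fY (g := g) r₀) p = pullback.snd (fV D) p :=
  pullback.lift_snd _ _ _

theorem γ_congr {n' n'' : pullback (fV D) p ⟶ U₀} (e : n' = n'')
    (hn' : n' ≫ r₀ = pullback.snd (fV D) p ≫ p) (hn'' : n'' ≫ r₀ = pullback.snd (fV D) p ≫ p) :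
    γ D r₀ p n' hn' = γ D r₀ p n'' hn'' := by
  subst e
  rfl

theorem hom_ext_Y {T : Scheme.{u}} {a b : T ⟶ pullback (fY (g := g) r₀) p}
    (h1 : a ≫ pullback.fst (fY (g := g) r₀) p ≫ pullback.fst g r₀ =
      b ≫ pullback.fst (fY (g := g) r₀) p ≫ pullback.fst g r₀)
    (h2 : a ≫ pullback.fst (fY (g := g) r₀) p ≫ pullback.snd g r₀ =
      b ≫ pullback.fst (fY (g := g) r₀) p ≫ pullback.snd g r₀)
    (h3 : a ≫ pullback.snd (fY (g := g) r₀) p = b ≫ pullback.snd (fY (g := g) r₀) p) : a = b := by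
  apply pullback.hom_ext
  · apply pullback.hom_ext
    · simpa only [Category.assoc] using h1
    · simpa only [Category.assoc] using h2
  · exact h3

variable (D r₀ p)

/-- quotient data in the `Y`-model: `n' : V ×_S Z ⟶ U₀`. -/
structure YQuot (n' : pullback (fV D) p ⟶ U₀) : Prop where
  w : n' ≫ r₀ = pullback.snd (fV D) p ≫ p
  inv : tm D p ≫ n' = fs D p ≫ n'
  iso : IsIso (γ D r₀ p n' w)

section beta

variable (g)

variable {U : Scheme.{u}} {q : U ⟶ Z} {kU : U ⟶ U₀} (sqU : IsPullback kU q r₀ p)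

/-- `X₁ ×_Z U ⟶ (S' ×_S U₀) ×_S Z`. -/
noncomputable def β : pullback (pullback.snd g p) q ⟶ pullback (fY (g := g) r₀) p :=
  pullback.lift (pullback.lift (pullback.fst (pullback.snd g p) q ≫ pullback.fst g p)
      (pullback.snd (pullback.snd g p) q ≫ kU) (by
      rw [Category.assoc, pullback.condition, pullback.condition_assoc, Category.assoc, sqU.w]))
    (pullback.fst (pullback.snd g p) q ≫ pullback.snd g p) (by
      rw [pullback.lift_fst_assoc, Category.assoc, Category.assoc, pullback.condition])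

/-- `(S' ×_S U₀) ×_S Z ⟶ X₁ ×_Z U`. -/
noncomputable def βinv : pullback (fY (g := g) r₀) p ⟶ pullback (pullback.snd g p) q :=
  pullback.lift (pullback.lift (pullback.fst (fY (g := g) r₀) p ≫ pullback.fst g r₀)
      (pullback.snd (fY (g := g) r₀) p) (by
      rw [Category.assoc]
      exact pullback.condition))
    (sqU.lift (pullback.fst (fY (g := g) r₀) p ≫ pullback.snd g r₀)
      (pullback.snd (fY (g := g) r₀) p) (by
      rw [Category.assoc, ← pullback.condition]
      exact pullback.condition))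
    (by rw [pullback.lift_snd, sqU.lift_snd])

@[reassoc (attr := simp)]
theorem β_fst_fst : β g r₀ p sqU ≫ pullback.fst (fY (g := g) r₀) p ≫ pullback.fst g r₀ =
    pullback.fst (pullback.snd g p) q ≫ pullback.fst g p := by
  unfold β
  rw [pullback.lift_fst_assoc, pullback.lift_fst]

@[reassoc (attr := simp)]
theorem β_fst_snd : β g r₀ p sqU ≫ pullback.fst (fY (g := g) r₀) p ≫ pullback.snd g r₀ =
    pullback.snd (pullback.snd g p) q ≫ kU := by
  unfold β
  rw [pullback.lift_fst_assoc, pullback.lift_snd]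

@[reassoc (attr := simp)]
theorem β_snd : β g r₀ p sqU ≫ pullback.snd (fY (g := g) r₀) p =
    pullback.fst (pullback.snd g p) q ≫ pullback.snd g p :=
  pullback.lift_snd _ _ _

@[reassoc (attr := simp)]
theorem βinv_fst_fst : βinv g r₀ p sqU ≫ pullback.fst (pullback.snd g p) q ≫ pullback.fst g p =
    pullback.fst (fY (g := g) r₀) p ≫ pullback.fst g r₀ := by
  unfold βinv
  rw [pullback.lift_fst_assoc, pullback.lift_fst]

@[reassoc (attr := simp)]
theorem βinv_fst_snd : βinv g r₀ p sqU ≫ pullback.fst (pullback.snd g p) q ≫ pullback.snd g p =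
    pullback.snd (fY (g := g) r₀) p := by
  unfold βinv
  rw [pullback.lift_fst_assoc, pullback.lift_snd]

@[reassoc (attr := simp)]
theorem βinv_snd_kU : βinv g r₀ p sqU ≫ pullback.snd (pullback.snd g p) q ≫ kU =
    pullback.fst (fY (g := g) r₀) p ≫ pullback.snd g r₀ := by
  unfold βinv
  rw [pullback.lift_snd_assoc, sqU.lift_fst]

@[reassoc (attr := simp)]
theorem βinv_snd_q : βinv g r₀ p sqU ≫ pullback.snd (pullback.snd g p) q ≫ q =
    pullback.snd (fY (g := g) r₀) p := by
  unfold βinv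
  rw [pullback.lift_snd_assoc, sqU.lift_snd]

@[reassoc (attr := simp)]
theorem β_βinv : β g r₀ p sqU ≫ βinv g r₀ p sqU = 𝟙 _ := by
  apply pullback.hom_ext
  · apply pullback.hom_ext
    · rw [Category.assoc, Category.assoc, βinv_fst_fst, β_fst_fst, Category.id_comp]
    · rw [Category.assoc, Category.assoc, βinv_fst_snd, β_snd, Category.id_comp]
  · apply sqU.hom_ext
    · rw [Category.assoc, Category.assoc, βinv_snd_kU, β_fst_snd, Category.id_comp]
    · rw [Category.assoc, Category.assoc, βinv_snd_q, β_snd, Category.id_comp, pullback.condition]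

@[reassoc (attr := simp)]
theorem βinv_β : βinv g r₀ p sqU ≫ β g r₀ p sqU = 𝟙 _ := by
  apply hom_ext_Y
  · rw [Category.assoc, β_fst_fst, βinv_fst_fst, Category.id_comp]
  · rw [Category.assoc, β_fst_snd, βinv_snd_kU, Category.id_comp]
  · rw [Category.assoc, β_snd, βinv_fst_snd, Category.id_comp]

theorem lift_β (m : V₁ p D ⟶ U)
    (hw : pullback.snd D.obj.hom (pullback.fst g p) ≫ pullback.snd g p = m ≫ q)
    (hw' : (ι D p ≫ m ≫ kU) ≫ r₀ = pullback.snd (fV D) p ≫ p) :
    pullback.lift (pullback.snd D.obj.hom (pullback.fst g p)) m hw ≫ β g r₀ p sqU =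
      ιinv D p ≫ γ D r₀ p (ι D p ≫ m ≫ kU) hw' := by
  apply hom_ext_Y
  · rw [Category.assoc, β_fst_fst, pullback.lift_fst_assoc, Category.assoc, γ_fst_fst,
      ιinv_fst_assoc, pullback.condition]
  · rw [Category.assoc, β_fst_snd, pullback.lift_snd_assoc, Category.assoc, γ_fst_snd,
      ιinv_ι_assoc]
  · rw [Category.assoc, β_snd, pullback.lift_fst_assoc, Category.assoc, γ_snd, ιinv_snd]

theorem lift_eq (m : V₁ p D ⟶ U)
    (hw : pullback.snd D.obj.hom (pullback.fst g p) ≫ pullback.snd g p = m ≫ q)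
    (hw' : (ι D p ≫ m ≫ kU) ≫ r₀ = pullback.snd (fV D) p ≫ p) :
    pullback.lift (pullback.snd D.obj.hom (pullback.fst g p)) m hw =
      ιinv D p ≫ γ D r₀ p (ι D p ≫ m ≫ kU) hw' ≫ βinv g r₀ p sqU := by
  rw [← Category.assoc, ← lift_β g D r₀ p sqU m hw hw', Category.assoc, β_βinv, Category.comp_id]

theorem γ_eq (m : V₁ p D ⟶ U)
    (hw : pullback.snd D.obj.hom (pullback.fst g p) ≫ pullback.snd g p = m ≫ q)
    (hw' : (ι D p ≫ m ≫ kU) ≫ r₀ = pullback.snd (fV D) p ≫ p) :
    γ D r₀ p (ι D p ≫ m ≫ kU) hw' =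
      ι D p ≫ pullback.lift (pullback.snd D.obj.hom (pullback.fst g p)) m hw ≫ β g r₀ p sqU := by
  rw [lift_β g D r₀ p sqU m hw hw', ι_ιinv_assoc]

end beta

end Groth.Agent.H40.Lm
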